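import Groth.Agent.DVRDom.Basic
import Groth.Agent.Schless.Limit
import Groth.Agent.CAlgH.NagataComplete
import Mathlib.RingTheory.Filtration
import Mathlib.RingTheory.Ideal.MinimalPrime.Noetherian
import Mathlib.RingTheory.Nilpotent.Lemmas

/-!
# The topology defined by the discrete valuation rings over a complete local ring
-/

set_option autoImplicit false
set_option backward.isDefEq.respectTransparency false
set_option linter.style.haveILetI false

universe u

open IsLocalRing

namespace Groth.Agent.EGA43.DvrCrit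

variable (R : Type u) [CommRing R] [IsLocalRing R] [IsNoetherianRing R]

/-- Every minimal prime of a local ring of positive dimension is the kernel of a local map to a DVR. -/
theorem exists_dvr_ker (q : Ideal R) [q.IsPrime] (hq : q ≠ maximalIdeal R) :
    ∃ (V : Type u) (_ : CommRing V) (_ : IsDomain V) (_ : IsDiscreteValuationRing V) (ψ : R →+* V),
      RingHom.ker ψ = q ∧ IsLocalHom ψ := by
  haveI : IsLocalRing (R ⧸ q) := .of_surjective' (Ideal.Quotient.mk q) Ideal.Quotient.mk_surjective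
  haveI : IsLocalHom (Ideal.Quotient.mk q) := IsLocalHom.of_surjective _ Ideal.Quotient.mk_surjective
  have hf : ¬ IsField (R ⧸ q) := fun h =>
    hq (IsLocalRing.eq_maximalIdeal (Ideal.Quotient.maximal_of_isField q h))
  obtain ⟨V, _, _, _, f, hf, hloc⟩ := DVRDom.exists_dvr (R ⧸ q) hf
  refine ⟨V, ‹_›, ‹_›, ‹_›, f.comp (Ideal.Quotient.mk q), ?_, inferInstance⟩
  rw [← RingHom.comap_ker, (RingHom.injective_iff_ker_eq_bot f).1 hf, ← RingHom.ker_eq_comap_bot, Ideal.mk_ker]

/-- A finite family of DVRs whose valuations define the topology of a complete local ring modulo nilpotents. -/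
theorem exists_dvr_family [IsAdicComplete (maximalIdeal R) R] (h : maximalIdeal R ∉ minimalPrimes R) :
    ∃ (ι : Type u) (_ : Fintype ι) (V : ι → Type u) (_ : ∀ i, CommRing (V i)) (_ : ∀ i, IsDomain (V i))
      (_ : ∀ i, IsDiscreteValuationRing (V i)) (ψ : ∀ i, R →+* V i),
      (∀ i, IsLocalHom (ψ i)) ∧
        ∀ N : ℕ, ∃ n : ℕ, ⨅ i, (maximalIdeal (V i) ^ n).comap (ψ i) ≤ nilradical R ⊔ maximalIdeal R ^ N := by
  classical
  let ι := {q : Ideal R // q ∈ minimalPrimes R}
  haveI : Finite ι := (minimalPrimes.finite_of_isNoetherianRing R).to_subtype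
  letI : Fintype ι := Fintype.ofFinite ι
  haveI : ∀ i : ι, i.1.IsPrime := fun i => i.2.1.1
  choose V iC iD iV ψ hker hloc using fun i : ι => exists_dvr_ker R i.1 fun e => h (e ▸ i.2)
  refine ⟨ι, inferInstance, V, iC, iD, iV, ψ, hloc, fun N => ?_⟩
  let J := nilradical R
  have hJker : ∀ i, J ≤ RingHom.ker (ψ i) := fun i =>
    (hker i).symm ▸ (Ideal.IsPrime.radical_le_iff inferInstance).2 bot_le
  have hJle : ⨅ i, RingHom.ker (ψ i) ≤ J := by
    show _ ≤ nilradical R
    rw [nilradical_eq_sInf, le_sInf_iff]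
    intro p (hp : p.IsPrime)
    obtain ⟨q, hq, hqp⟩ := Ideal.exists_minimalPrimes_le (J := p) (bot_le : (⊥ : Ideal R) ≤ p)
    exact (iInf_le _ (⟨q, hq⟩ : ι)).trans ((hker ⟨q, hq⟩).le.trans hqp)
  haveI : Nontrivial (R ⧸ J) := Ideal.Quotient.nontrivial_iff.2 fun e =>
    not_isNilpotent_one (mem_nilradical.1 (show (1 : R) ∈ J from e ▸ trivial))
  haveI : IsLocalRing (R ⧸ J) := .of_surjective' (Ideal.Quotient.mk J) Ideal.Quotient.mk_surjective
  haveI := CAlgH.isAdicComplete_quotient J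
  let ψ' : ∀ i, R ⧸ J →+* V i := fun i => Ideal.Quotient.lift J (ψ i) fun a ha => hJker i ha
  have hloc' : ∀ i, IsLocalHom (ψ' i) := fun i => ⟨fun a ha => by
    obtain ⟨a, rfl⟩ := Ideal.Quotient.mk_surjective a
    exact ((hloc i).map_nonunit a ha).map _⟩
  let K : ℕ → Ideal (R ⧸ J) := fun n => ⨅ i, (maximalIdeal (V i) ^ n).comap (ψ' i)
  have hanti : Antitone K := fun m n hmn => iInf_mono fun i => Ideal.comap_mono (Ideal.pow_le_pow_right hmn)
  have hK : ⨅ n, K n = ⊥ := by
    refine le_bot_iff.1 fun a ha => ?_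
    obtain ⟨a, rfl⟩ := Ideal.Quotient.mk_surjective a
    rw [Submodule.mem_bot, Ideal.Quotient.eq_zero_iff_mem]
    refine hJle (Submodule.mem_iInf _ |>.2 fun i => ?_)
    have h0 : ψ i a ∈ ⨅ n : ℕ, maximalIdeal (V i) ^ n := Submodule.mem_iInf _ |>.2 fun n =>
      Submodule.mem_iInf _ |>.1 (Submodule.mem_iInf _ |>.1 ha n) i
    rwa [Ideal.iInf_pow_eq_bot_of_isLocalRing _ (maximalIdeal.isMaximal _).ne_top] at h0
  have hpow : ∀ n, ∃ M, maximalIdeal (R ⧸ J) ^ M ≤ K n := fun n => ⟨n, le_iInf fun i => by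
    rw [← Ideal.map_le_iff_le_comap, Ideal.map_pow]
    refine Ideal.pow_right_mono (Ideal.map_le_iff_le_comap.2 fun r hr => ?_) _
    exact fun hu => hr ((hloc' i).map_nonunit r hu)⟩
  obtain ⟨n, hn⟩ := Schless.chevalley K hanti hK hpow N
  refine ⟨n, fun a ha => ?_⟩
  have h1 : Ideal.Quotient.mk J a ∈ maximalIdeal (R ⧸ J) ^ N :=
    hn (Submodule.mem_iInf _ |>.2 fun i => Submodule.mem_iInf _ |>.1 ha i)
  rw [← IsLocalRing.map_maximalIdeal_of_surjective (Ideal.Quotient.mk J) Ideal.Quotient.mk_surjective,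
    ← Ideal.map_pow] at h1
  have h2 : a ∈ ((maximalIdeal R ^ N).map (Ideal.Quotient.mk J)).comap (Ideal.Quotient.mk J) := h1
  rw [Ideal.comap_map_of_surjective' _ Ideal.Quotient.mk_surjective, Ideal.mk_ker, sup_comm] at h2
  exact h2

end Groth.Agent.EGA43.DvrCrit
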