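import Groth.Agent.Desc19b.FlatOverBC
import Mathlib.RingTheory.SimpleModule.Basic
import Mathlib.RingTheory.TensorProduct.Basic

/-!
# Flatness over the generic fibres of a reduced base
-/

set_option autoImplicit false
set_option backward.isDefEq.respectTransparency false
set_option linter.style.haveILetI false

universe u

open CategoryTheory CategoryTheory.Limits AlgebraicGeometry TensorProduct

namespace Groth.Agent.EGA43.DvrCrit

/-- An `R`-split injection stays injective after tensoring with a localised base change. -/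
theorem rTensor_injective_baseChange {R A R' T O : Type u} [CommRing R] [CommRing A] [CommRing R'] [CommRing T]
    [CommRing O] [Algebra R A] [Algebra R R'] [Algebra R' T] [Algebra A T] [Algebra R T] [IsScalarTower R R' T]
    [IsScalarTower R A T] [Algebra.IsPushout R R' A T] [Algebra T O] [Algebra R' O] [Algebra A O]
    [IsScalarTower R' T O] [IsScalarTower A T O] [Module.Flat T O] (M : Type u) [AddCommGroup M] [Module A M]
    [Module R M] [IsScalarTower R A M] {P Q : Type u} [AddCommGroup P] [Module R' P] [Module R P]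
    [IsScalarTower R R' P] [AddCommGroup Q] [Module R' Q] [Module R Q] [IsScalarTower R R' Q]
    (u : P →ₗ[R'] Q) (v : Q →ₗ[R] P) (huv : ∀ p, v (u p) = p) :
    Function.Injective (u.rTensor (O ⊗[A] M)) := by
  have h0 : Function.Injective ((u.restrictScalars R).rTensor M) := fun a b hab => by
    have hid : v ∘ₗ u.restrictScalars R = LinearMap.id := LinearMap.ext huv
    have := congrArg (v.rTensor M) hab
    rwa [← LinearMap.rTensor_comp_apply, ← LinearMap.rTensor_comp_apply, hid, LinearMap.rTensor_id_apply,
      LinearMap.rTensor_id_apply] at this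
  let e0 : T ⊗[A] M ≃ₗ[R'] R' ⊗[R] M := Algebra.IsPushout.cancelBaseChange R R' A T M
  let eP : P ⊗[R'] (T ⊗[A] M) ≃ₗ[R'] P ⊗[R] M :=
    (LinearEquiv.lTensor P e0).trans (AlgebraTensorModule.cancelBaseChange R R' R' P M)
  let eQ : Q ⊗[R'] (T ⊗[A] M) ≃ₗ[R'] Q ⊗[R] M :=
    (LinearEquiv.lTensor Q e0).trans (AlgebraTensorModule.cancelBaseChange R R' R' Q M)
  have hc : ∀ x, eQ (u.rTensor (T ⊗[A] M) x) = (u.restrictScalars R).rTensor M (eP x) := by
    intro x
    obtain ⟨y, rfl⟩ := (LinearEquiv.lTensor P e0.symm).surjective x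
    induction y with
    | zero => simp
    | add a b ha hb => simp only [map_add, ha, hb]
    | tmul p w =>
      induction w with
      | zero => simp
      | add a b ha hb => simp only [tmul_add, map_add, ha, hb]
      | tmul r m => simp [eP, eQ]
  have h1 : Function.Injective (u.rTensor (T ⊗[A] M)) := fun a b hab =>
    eP.injective (h0 (by rw [← hc, ← hc, hab]))
  rw [← LinearMap.lTensor_inj_iff_rTensor_inj] at h1 ⊢
  have h2 := Module.Flat.lTensor_preserves_injective_linearMap (M := O)
    (AlgebraTensorModule.lTensor T (T ⊗[A] M) u) h1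
  let fP := AlgebraTensorModule.assoc R' T T O (T ⊗[A] M) P
  let fQ := AlgebraTensorModule.assoc R' T T O (T ⊗[A] M) Q
  have h3 : (AlgebraTensorModule.lTensor T (O ⊗[T] (T ⊗[A] M)) u) =
      fQ.symm.toLinearMap ∘ₗ ((AlgebraTensorModule.lTensor T (T ⊗[A] M) u).lTensor O) ∘ₗ fP.toLinearMap := by
    ext b n q; rfl
  have h4 : Function.Injective (u.lTensor (O ⊗[T] (T ⊗[A] M))) := by
    show Function.Injective (AlgebraTensorModule.lTensor T (O ⊗[T] (T ⊗[A] M)) u)
    rw [h3]; exact fQ.symm.injective.comp (h2.comp fP.injective)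
  rw [LinearMap.lTensor_inj_iff_rTensor_inj] at h4 ⊢
  let e := (AlgebraTensorModule.cancelBaseChange A T O O M).restrictScalars R'
  intro a b hab
  apply (LinearEquiv.lTensor P e.symm).injective
  apply h4
  change (u.rTensor _ ∘ₗ e.symm.toLinearMap.lTensor P) a = (u.rTensor _ ∘ₗ e.symm.toLinearMap.lTensor P) b
  rw [LinearMap.rTensor_comp_lTensor, ← LinearMap.lTensor_comp_rTensor, LinearMap.comp_apply,
    LinearMap.comp_apply, hab]

/-- Flatness of a base change, tested on modules over the new ring. -/
theorem flat_baseChange_of_forall {A R : Type u} [CommRing A] [CommRing R] [Algebra A R] (N : Type u)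
    [AddCommGroup N] [Module A N]
    (h : ∀ (P Q : Type u) [AddCommGroup P] [AddCommGroup Q] [Module R P] [Module R Q] [Module A P] [Module A Q]
      [IsScalarTower A R P] [IsScalarTower A R Q] (u : P →ₗ[R] Q),
      Function.Injective u → Function.Injective ((u.restrictScalars A).rTensor N)) :
    Module.Flat R (R ⊗[A] N) := by
  rw [Module.Flat.iff_rTensor_preserves_injective_linearMap]
  intro P Q _ _ _ _ u hu
  letI : Module A P := Module.compHom P (algebraMap A R)
  letI : Module A Q := Module.compHom Q (algebraMap A R)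
  haveI : IsScalarTower A R P := IsScalarTower.of_algebraMap_smul fun _ _ => rfl
  haveI : IsScalarTower A R Q := IsScalarTower.of_algebraMap_smul fun _ _ => rfl
  let eP := AlgebraTensorModule.cancelBaseChange A R R P N
  let eQ := AlgebraTensorModule.cancelBaseChange A R R Q N
  have hc : ∀ x, eQ (u.rTensor _ x) = (u.restrictScalars A).rTensor N (eP x) := by
    intro x
    induction x with
    | zero => simp
    | add a b ha hb => simp only [map_add, ha, hb]
    | tmul p w =>
      induction w with
      | zero => simp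
      | add a b ha hb => simp only [tmul_add, map_add, ha, hb]
      | tmul r m => simp [eP, eQ]
  intro a b hab
  exact eP.injective (h P Q u hu (by rw [← hc, ← hc, hab]))

/-- Split injections detect flatness over the generic fibre. -/
theorem flat_tensor_of_semisimple {O A K : Type u} [CommRing O] [CommRing A] [CommRing K] [Algebra O A]
    [Algebra O K] [IsSemisimpleRing K] (N : Type u) [AddCommGroup N] [Module A N]
    (hN : ∀ (P Q : Type u) [AddCommGroup P] [AddCommGroup Q] [Module A P] [Module A Q] [Module O P] [Module O Q]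
      [IsScalarTower O A P] [IsScalarTower O A Q] (u : P →ₗ[A] Q) (v : Q →ₗ[O] P),
      (∀ p, v (u p) = p) → Function.Injective (u.rTensor N)) :
    Module.Flat (A ⊗[O] K) ((A ⊗[O] K) ⊗[A] N) := by
  refine flat_baseChange_of_forall N fun P Q _ _ _ _ _ _ _ _ u hu => ?_
  let R := A ⊗[O] K
  let κ : K →+* R := (Algebra.TensorProduct.includeRight : K →ₐ[O] R).toRingHom
  letI : Module K P := Module.compHom P κ
  letI : Module K Q := Module.compHom Q κ
  letI : Module O P := Module.compHom P (algebraMap O R)
  letI : Module O Q := Module.compHom Q (algebraMap O R)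
  haveI : IsScalarTower O A P := IsScalarTower.of_algebraMap_smul fun r p => by
    show algebraMap O A r • p = algebraMap O R r • p
    rw [← algebraMap_smul R (algebraMap O A r) p, ← IsScalarTower.algebraMap_apply]
  haveI : IsScalarTower O A Q := IsScalarTower.of_algebraMap_smul fun r p => by
    show algebraMap O A r • p = algebraMap O R r • p
    rw [← algebraMap_smul R (algebraMap O A r) p, ← IsScalarTower.algebraMap_apply]
  haveI : IsScalarTower O K P := IsScalarTower.of_algebraMap_smul fun r p => by
    show κ (algebraMap O K r) • p = algebraMap O R r • p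
    exact congrArg (· • p) ((Algebra.TensorProduct.includeRight : K →ₐ[O] R).commutes r)
  haveI : IsScalarTower O K Q := IsScalarTower.of_algebraMap_smul fun r p => by
    show κ (algebraMap O K r) • p = algebraMap O R r • p
    exact congrArg (· • p) ((Algebra.TensorProduct.includeRight : K →ₐ[O] R).commutes r)
  let uK : P →ₗ[K] Q := { toFun := u, map_add' := map_add u, map_smul' := fun k p => map_smul u (κ k) p }
  obtain ⟨v, hv⟩ := IsSemisimpleModule.extension_property uK hu LinearMap.id
  exact hN P Q (u.restrictScalars A) (v.restrictScalars O) fun p => LinearMap.congr_fun hv p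

variable {X S X' S' : Scheme.{u}}

/-- The split-injection criterion for the stalk of a base change of a module. -/
theorem rTensor_injective_pullback (f : X ⟶ S) (f' : X' ⟶ S') (g' : X' ⟶ X) (g : S' ⟶ S)
    (hc : IsPullback g' f' f g) (F : X.Modules) (x' : X') (hpt : g (f' x') = f (g' x')) :
    letI := (S.presheaf.stalkSpecializes (specializes_of_eq hpt) ≫ g.stalkMap (f' x')).hom.toAlgebra
    letI := FlatMod.moduleStalkOver f' ((Scheme.Modules.pullback g').obj F) x'
    ∀ (P Q : Type u) [AddCommGroup P] [AddCommGroup Q] [Module (S'.presheaf.stalk (f' x')) P]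
      [Module (S'.presheaf.stalk (f' x')) Q] [Module (S.presheaf.stalk (f (g' x'))) P]
      [Module (S.presheaf.stalk (f (g' x'))) Q]
      [IsScalarTower (S.presheaf.stalk (f (g' x'))) (S'.presheaf.stalk (f' x')) P]
      [IsScalarTower (S.presheaf.stalk (f (g' x'))) (S'.presheaf.stalk (f' x')) Q]
      (u : P →ₗ[S'.presheaf.stalk (f' x')] Q) (v : Q →ₗ[S.presheaf.stalk (f (g' x'))] P),
      (∀ p, v (u p) = p) →
        Function.Injective (u.rTensor (((Scheme.Modules.pullback g').obj F).presheaf.stalk x')) := by
  let a : S.presheaf.stalk (f (g' x')) ⟶ X.presheaf.stalk (g' x') := f.stalkMap (g' x')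
  let b : S.presheaf.stalk (f (g' x')) ⟶ S'.presheaf.stalk (f' x') :=
    S.presheaf.stalkSpecializes (specializes_of_eq hpt) ≫ g.stalkMap (f' x')
  have ha : Spec.map a ≫ S.fromSpecStalk (f (g' x')) = X.fromSpecStalk (g' x') ≫ f :=
    Scheme.SpecMap_stalkMap_fromSpecStalk f
  have hb : Spec.map b ≫ S.fromSpecStalk (f (g' x')) = S'.fromSpecStalk (f' x') ≫ g := by
    simp only [b, Spec.map_comp, Category.assoc, Scheme.SpecMap_stalkSpecializes_fromSpecStalk,
      Scheme.SpecMap_stalkMap_fromSpecStalk]
  have w : a ≫ g'.stalkMap x' = b ≫ f'.stalkMap x' := by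
    apply Spec.map_injective
    rw [← cancel_mono (S.fromSpecStalk (f (g' x'))), Spec.map_comp a, Spec.map_comp b, Category.assoc,
      Category.assoc, ha, hb, ← Category.assoc, ← Category.assoc, Scheme.SpecMap_stalkMap_fromSpecStalk,
      Scheme.SpecMap_stalkMap_fromSpecStalk, Category.assoc, Category.assoc, hc.w]
  have hθ := Desc19b.exists_flat_stalk_tensor f f' g' g hc x' a b w _ ha hb
  letI : Algebra (S.presheaf.stalk (f (g' x'))) (X.presheaf.stalk (g' x')) := a.hom.toAlgebra
  letI : Algebra (S.presheaf.stalk (f (g' x'))) (S'.presheaf.stalk (f' x')) := b.hom.toAlgebra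
  letI : Algebra (S'.presheaf.stalk (f' x')) ↑(pushout a b) := (pushout.inr a b).hom.toAlgebra
  letI : Algebra (X.presheaf.stalk (g' x')) ↑(pushout a b) := (pushout.inl a b).hom.toAlgebra
  letI : Algebra (S.presheaf.stalk (f (g' x'))) ↑(pushout a b) := (a ≫ pushout.inl a b).hom.toAlgebra
  haveI : IsScalarTower (S.presheaf.stalk (f (g' x'))) (X.presheaf.stalk (g' x')) ↑(pushout a b) :=
    .of_algebraMap_eq fun _ => rfl
  haveI : IsScalarTower (S.presheaf.stalk (f (g' x'))) (S'.presheaf.stalk (f' x')) ↑(pushout a b) :=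
    .of_algebraMap_eq fun r => RingHom.congr_fun (congrArg CommRingCat.Hom.hom (pushout.condition (f := a) (g := b))) r
  haveI : Algebra.IsPushout (S.presheaf.stalk (f (g' x'))) (S'.presheaf.stalk (f' x'))
      (X.presheaf.stalk (g' x')) ↑(pushout a b) :=
    CommRingCat.isPushout_iff_isPushout.1 (IsPushout.of_hasPushout a b).flip
  letI : Algebra ↑(pushout a b) (X'.presheaf.stalk x') := (pushout.desc (g'.stalkMap x') (f'.stalkMap x') w).hom.toAlgebra
  letI : Algebra (S'.presheaf.stalk (f' x')) (X'.presheaf.stalk x') := (f'.stalkMap x').hom.toAlgebra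
  letI : Algebra (X.presheaf.stalk (g' x')) (X'.presheaf.stalk x') := (g'.stalkMap x').hom.toAlgebra
  haveI : IsScalarTower (S'.presheaf.stalk (f' x')) ↑(pushout a b) (X'.presheaf.stalk x') :=
    .of_algebraMap_eq fun r => (RingHom.congr_fun (congrArg CommRingCat.Hom.hom (pushout.inr_desc _ _ w)) r).symm
  haveI : IsScalarTower (X.presheaf.stalk (g' x')) ↑(pushout a b) (X'.presheaf.stalk x') :=
    .of_algebraMap_eq fun r => (RingHom.congr_fun (congrArg CommRingCat.Hom.hom (pushout.inl_desc _ _ w)) r).symm
  haveI : Module.Flat ↑(pushout a b) (X'.presheaf.stalk x') := hθ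
  letI := FlatMod.moduleStalkOver f F (g' x')
  letI := FlatMod.moduleStalkOver f' ((Scheme.Modules.pullback g').obj F) x'
  haveI : IsScalarTower (S.presheaf.stalk (f (g' x'))) (X.presheaf.stalk (g' x')) (F.presheaf.stalk (g' x')) :=
    .of_algebraMap_smul fun _ _ => rfl
  haveI : IsScalarTower (S'.presheaf.stalk (f' x')) (X'.presheaf.stalk x')
      (((Scheme.Modules.pullback g').obj F).presheaf.stalk x') := .of_algebraMap_smul fun _ _ => rfl
  intro P Q _ _ _ _ _ _ _ _ u v huv
  have h := rTensor_injective_baseChange (R := S.presheaf.stalk (f (g' x'))) (A := X.presheaf.stalk (g' x'))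
    (R' := S'.presheaf.stalk (f' x')) (T := ↑(pushout a b)) (O := X'.presheaf.stalk x') (F.presheaf.stalk (g' x')) u v huv
  let e : ((Scheme.Modules.pullback g').obj F).presheaf.stalk x' ≃ₗ[X'.presheaf.stalk x']
      (X'.presheaf.stalk x') ⊗[X.presheaf.stalk (g' x')] (F.presheaf.stalk (g' x')) :=
    ((ModStalk.pullbackStalkIso g' x').app F).toLinearEquiv
  let e' := e.restrictScalars (S'.presheaf.stalk (f' x'))
  intro c d hcd
  apply (LinearEquiv.lTensor P e').injective
  apply h
  change (u.rTensor _ ∘ₗ e'.toLinearMap.lTensor P) c = (u.rTensor _ ∘ₗ e'.toLinearMap.lTensor P) d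
  rw [LinearMap.rTensor_comp_lTensor, ← LinearMap.lTensor_comp_rTensor, LinearMap.comp_apply,
    LinearMap.comp_apply, hcd]

end Groth.Agent.EGA43.DvrCrit
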