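import Groth.Agent.EGA43.DvrCrit.AdicQuot
import Groth.Agent.EGA43.DvrCrit.DvrTop
import Groth.Agent.EGA43.DvrCrit.Generic
import Groth.Agent.EGA43.FlatBC.StalkFamily
import Groth.Agent.EGA43.FlatBC.AssFlat
import Groth.Agent.CommAlg6.CompletionEquidim
import Groth.Agent.Props12.Stalks
import Mathlib.AlgebraicGeometry.Noetherian

/-!
# EGA IV 11.8.1: the valuative criterion of flatness
-/

set_option autoImplicit false
set_option backward.isDefEq.respectTransparency false
set_option linter.style.haveILetI false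

universe u

open CategoryTheory CategoryTheory.Limits AlgebraicGeometry IsLocalRing
open scoped TensorProduct

namespace Groth.Agent.EGA43.DvrCrit

variable {X Y : Scheme.{u}}

theorem isFlatOverAt_of_iso (f : X ⟶ Y) {F G : X.Modules} (e : F ≅ G) (x : X)
    (h : FlatMod.IsFlatOverAt f F x) : FlatMod.IsFlatOverAt f G x := by
  letI := (f.stalkMap x).hom.toAlgebra
  letI := FlatMod.moduleStalkOver f F x
  letI := FlatMod.moduleStalkOver f G x
  haveI : IsScalarTower (Y.presheaf.stalk (f x)) (X.presheaf.stalk x) (F.presheaf.stalk x) :=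
    IsScalarTower.of_compHom _ _ _
  haveI : IsScalarTower (Y.presheaf.stalk (f x)) (X.presheaf.stalk x) (G.presheaf.stalk x) :=
    IsScalarTower.of_compHom _ _ _
  let e' : F.presheaf.stalk x ≃ₗ[X.presheaf.stalk x] G.presheaf.stalk x :=
    ((DerSch.stalkFunctor X x).mapIso e).toLinearEquiv
  haveI : Module.Flat (Y.presheaf.stalk (f x)) (F.presheaf.stalk x) := h
  exact Module.Flat.of_linearEquiv (e'.restrictScalars (Y.presheaf.stalk (f x))).symm

/-- Points of an iterated base change. -/
theorem isFlatOverAt_iterated {S T : Scheme.{u}} (f : X ⟶ Y) (g : S ⟶ Y) (h : T ⟶ S) (k : T ⟶ Y)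
    (hk : h ≫ g = k) (F : X.Modules) (x : X) (t : T)
    (H : ∀ z : ↑(pullback f k), pullback.fst f k z = x → pullback.snd f k z = t →
      FlatMod.IsFlatOverAt (pullback.snd f k) ((Scheme.Modules.pullback (pullback.fst f k)).obj F) z)
    (w : ↑(pullback (pullback.snd f g) h))
    (h1 : pullback.fst f g (pullback.fst (pullback.snd f g) h w) = x)
    (h2 : pullback.snd (pullback.snd f g) h w = t) :
    FlatMod.IsFlatOverAt (pullback.snd (pullback.snd f g) h)
      ((Scheme.Modules.pullback (pullback.fst (pullback.snd f g) h)).obj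
        ((Scheme.Modules.pullback (pullback.fst f g)).obj F)) w := by
  subst hk
  let e := pullbackLeftPullbackSndIso f g h
  have hes : e.hom ≫ pullback.snd f (h ≫ g) = pullback.snd (pullback.snd f g) h :=
    pullbackLeftPullbackSndIso_hom_snd f g h
  have hef : e.hom ≫ pullback.fst f (h ≫ g) = pullback.fst (pullback.snd f g) h ≫ pullback.fst f g :=
    pullbackLeftPullbackSndIso_hom_fst f g h
  have hc : IsPullback e.hom (pullback.snd (pullback.snd f g) h) (pullback.snd f (h ≫ g)) (𝟙 T) :=
    IsPullback.of_horiz_isIso ⟨by rw [Category.comp_id, hes]⟩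
  have hH := H (e.hom w) (by rw [← Scheme.Hom.comp_apply, hef, Scheme.Hom.comp_apply, h1])
    (by rw [← Scheme.Hom.comp_apply, hes, h2])
  have hb := Desc19b.isFlatOverAt_baseChange _ _ e.hom (𝟙 T) hc _ w hH
  exact isFlatOverAt_of_iso _ ((Scheme.Modules.pullbackComp e.hom (pullback.fst f (h ≫ g))).app F ≪≫
    eqToIso (by rw [hef]) ≪≫ ((Scheme.Modules.pullbackComp _ _).app F).symm) w hb

/-- An injection of a reduced Noetherian ring into a finite product of fields. -/
theorem exists_semisimple (O : Type u) [CommRing O] [IsNoetherianRing O] [_root_.IsReduced O] :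
    ∃ (K : Type u) (_ : CommRing K) (_ : Algebra O K) (_ : IsSemisimpleRing K),
      Function.Injective (algebraMap O K) := by
  let ι := {q : Ideal O // q ∈ minimalPrimes O}
  haveI : Finite ι := (minimalPrimes.finite_of_isNoetherianRing O).to_subtype
  haveI : ∀ i : ι, i.1.IsPrime := fun i => i.2.1.1
  refine ⟨∀ i : ι, FractionRing (O ⧸ i.1), inferInstance, inferInstance, inferInstance, ?_⟩
  rw [injective_iff_map_eq_zero]
  intro a ha
  have hn : a ∈ nilradical O := by
    rw [nilradical_eq_sInf, Ideal.mem_sInf]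
    intro p (hp : p.IsPrime)
    obtain ⟨q, hq, hqp⟩ := Ideal.exists_minimalPrimes_le (J := p) (bot_le : (⊥ : Ideal O) ≤ p)
    refine hqp (Ideal.Quotient.eq_zero_iff_mem.1 ?_)
    refine IsFractionRing.injective (O ⧸ q) (FractionRing (O ⧸ q)) ?_
    rw [map_zero, ← Ideal.Quotient.algebraMap_eq, ← IsScalarTower.algebraMap_apply]
    exact congrFun ha (⟨q, hq⟩ : ι)
  exact (mem_nilradical.1 hn).eq_zero

theorem isField_of_maximal_mem_minimalPrimes {O A : Type u} [CommRing O] [IsLocalRing O] [_root_.IsReduced O]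
    [CommRing A] [IsLocalRing A] (φ : O →+* A) [IsLocalHom φ] (hφ : Function.Injective φ)
    (h : maximalIdeal A ∈ minimalPrimes A) : IsField O := by
  refine IsLocalRing.isField_iff_maximalIdeal_eq.2 (le_bot_iff.1 fun a ha => ?_)
  have hn : φ a ∈ nilradical A := by
    rw [nilradical_eq_sInf, Ideal.mem_sInf]
    intro p (hp : p.IsPrime)
    exact h.2 ⟨hp, bot_le⟩ (le_maximalIdeal hp.ne_top) (show φ a ∈ maximalIdeal A from map_nonunit φ a ha)
  exact (IsNilpotent.map_iff hφ).1 (mem_nilradical.1 hn) |>.eq_zero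

variable (f : X ⟶ Y) (F : X.Modules)

/-- A flat base change of the generic fibres: flatness after tensoring with the total fraction ring. -/
theorem flat_generic {S : Scheme.{u}} (g : S ⟶ Y) (z : ↑(pullback f g))
    (hpt : g (pullback.snd f g z) = f (pullback.fst f g z)) (K : Type u) [CommRing K]
    [Algebra (Y.presheaf.stalk (f (pullback.fst f g z))) K] [IsSemisimpleRing K] :
    letI := (Y.presheaf.stalkSpecializes (specializes_of_eq hpt) ≫ g.stalkMap (pullback.snd f g z)).hom.toAlgebra
    letI := FlatMod.moduleStalkOver (pullback.snd f g) ((Scheme.Modules.pullback (pullback.fst f g)).obj F) z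
    Module.Flat (S.presheaf.stalk (pullback.snd f g z) ⊗[Y.presheaf.stalk (f (pullback.fst f g z))] K)
      ((S.presheaf.stalk (pullback.snd f g z) ⊗[Y.presheaf.stalk (f (pullback.fst f g z))] K)
        ⊗[S.presheaf.stalk (pullback.snd f g z)]
          ((Scheme.Modules.pullback (pullback.fst f g)).obj F).presheaf.stalk z) := by
  letI := (Y.presheaf.stalkSpecializes (specializes_of_eq hpt) ≫ g.stalkMap (pullback.snd f g z)).hom.toAlgebra
  letI := FlatMod.moduleStalkOver (pullback.snd f g) ((Scheme.Modules.pullback (pullback.fst f g)).obj F) z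
  exact flat_tensor_of_semisimple _
    (rTensor_injective_pullback f (pullback.snd f g) (pullback.fst f g) g (IsPullback.of_hasPullback f g) F z hpt)

theorem includeLeft_injective {O A K : Type u} [CommRing O] [CommRing A] [CommRing K] [Algebra O A]
    [Algebra O K] [Module.Flat O A] (hK : Function.Injective (algebraMap O K)) (a : A)
    (ha : algebraMap A (A ⊗[O] K) a = 0) : a = 0 := by
  have hinj := Module.Flat.lTensor_preserves_injective_linearMap (M := A) (Algebra.linearMap O K) hK
  have h0 : (a ⊗ₜ[O] (1 : O)) = 0 := hinj (by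
    rw [map_zero, LinearMap.lTensor_tmul, Algebra.linearMap_apply, map_one]
    exact ha)
  simpa using congrArg (TensorProduct.rid O A) h0

theorem iInf_comap_baseMap_le {A : Type u} [CommRing A] [IsLocalRing A] {ι : Type u} (V : ι → Type u)
    [∀ i, CommRing (V i)] [∀ i, IsLocalRing (V i)]
    (ψ : ∀ i, A →+* V i) {Z : Scheme.{u}} (p : Z ⟶ Spec (CommRingCat.of A)) (z : Z)
    (hz : p z = closedPoint A) (h : ∀ i, p z = Spec.map (CommRingCat.ofHom (ψ i)) (closedPoint (V i))) (n N : ℕ)
    (hn : ⨅ i, (maximalIdeal (V i) ^ n).comap (ψ i) ≤ nilradical A ⊔ maximalIdeal A ^ N) :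
    ⨅ i, (maximalIdeal ((Spec (CommRingCat.of (V i))).presheaf.stalk (closedPoint (V i))) ^ n).comap
        (FlatBC.baseMap p (Spec.map (CommRingCat.ofHom (ψ i))) (h i)).hom ≤
      nilradical ((Spec (CommRingCat.of A)).presheaf.stalk (p z)) ⊔
        maximalIdeal ((Spec (CommRingCat.of A)).presheaf.stalk (p z)) ^ N := by
  let e : A ≃+* (Spec (CommRingCat.of A)).presheaf.stalk (p z) :=
    RingEquiv.ofBijective _ (FlatBC.toStalk_bijective A (p z) (by rw [hz]; rfl))
  intro b hb
  obtain ⟨a, rfl⟩ := e.surjective b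
  have ha : a ∈ ⨅ i, (maximalIdeal (V i) ^ n).comap (ψ i) := Submodule.mem_iInf _ |>.2 fun i => by
    have hbi := Submodule.mem_iInf _ |>.1 hb i
    let eV : V i ≃+* (Spec (CommRingCat.of (V i))).presheaf.stalk (closedPoint (V i)) :=
      RingEquiv.ofBijective _ (FlatBC.toStalk_bijective (V i) (closedPoint (V i)) rfl)
    have hcomm : (FlatBC.baseMap p (Spec.map (CommRingCat.ofHom (ψ i))) (h i)).hom (e a) = eV (ψ i a) :=
      ConcreteCategory.congr_hom (FlatBC.toStalk_baseMap p (ψ i) z (closedPoint (V i)) (h i)) a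
    have hm : maximalIdeal ((Spec (CommRingCat.of (V i))).presheaf.stalk (closedPoint (V i))) =
        (maximalIdeal (V i)).map eV.toRingHom :=
      (IsLocalRing.map_maximalIdeal_of_surjective eV.toRingHom eV.surjective).symm
    rw [Ideal.mem_comap, hcomm, hm, ← Ideal.map_pow] at hbi
    have : ψ i a ∈ ((maximalIdeal (V i) ^ n).map eV.toRingHom).comap eV.toRingHom := hbi
    rwa [Ideal.comap_map_of_bijective eV.toRingHom eV.bijective] at this
  refine Ideal.map_le_of_le_comap (f := e.toRingHom) ?_ (Ideal.mem_map_of_mem e.toRingHom (hn ha))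
  refine sup_le (fun r hr => Ideal.mem_comap.2 (Ideal.mem_sup_left ?_)) (fun r hr => Ideal.mem_comap.2 (Ideal.mem_sup_right ?_))
  · exact mem_nilradical.2 ((mem_nilradical.1 hr).map e.toRingHom)
  · rw [← IsLocalRing.map_maximalIdeal_of_surjective e.toRingHom e.surjective, ← Ideal.map_pow]
    exact Ideal.mem_map_of_mem _ hr

theorem stalkMap_flat_specTo {y : Y} {A : Type u} [CommRing A]
    [Algebra (Y.presheaf.stalk y) A] [Module.Flat (Y.presheaf.stalk y) A] (s : ↥(Spec (CommRingCat.of A))) :
    ((Spec.map (CommRingCat.ofHom (algebraMap (Y.presheaf.stalk y) A)) ≫ Y.fromSpecStalk y).stalkMap s).hom.Flat := by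
  haveI : Flat (Spec.map (CommRingCat.ofHom (algebraMap (Y.presheaf.stalk y) A))) :=
    (HasRingHomProperty.Spec_iff (P := @Flat)).2 (by
      show (algebraMap (Y.presheaf.stalk y) A).Flat
      exact RingHom.flat_algebraMap_iff.2 inferInstance)
  haveI : Flat (Y.fromSpecStalk y) := Props12.flat_fromSpecStalk y
  exact Flat.stalkMap _ _

/-- Descent from a complete local base through a family of discrete valuation rings. -/
theorem isFlatOverAt_of_completion_family {Ah : Type u} [CommRing Ah] [IsLocalRing Ah] [IsNoetherianRing Ah]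
    [LocallyOfFiniteType f] (g : Spec (CommRingCat.of Ah) ⟶ Y) (z : ↑(pullback f g))
    (hz2 : pullback.snd f g z = closedPoint Ah) [IsNoetherianRing (Y.presheaf.stalk (f (pullback.fst f g z)))]
    [_root_.IsReduced (Y.presheaf.stalk (f (pullback.fst f g z)))]
    [Module.Finite (X.presheaf.stalk (pullback.fst f g z)) (F.presheaf.stalk (pullback.fst f g z))]
    (hg : (g.stalkMap (pullback.snd f g z)).hom.Flat) {ι : Type u} [Fintype ι] (V : ι → Type u)
    [∀ i, CommRing (V i)] [∀ i, IsDomain (V i)] [∀ i, IsDiscreteValuationRing (V i)] (ψ : ∀ i, Ah →+* V i)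
    (hψ : ∀ i, IsLocalHom (ψ i))
    (htop : ∀ N : ℕ, ∃ n, ⨅ i, (maximalIdeal (V i) ^ n).comap (ψ i) ≤ nilradical Ah ⊔ maximalIdeal Ah ^ N)
    (hflat : ∀ i (w : ↑(pullback (pullback.snd f g) (Spec.map (CommRingCat.ofHom (ψ i))))),
      pullback.fst (pullback.snd f g) (Spec.map (CommRingCat.ofHom (ψ i))) w = z →
      pullback.snd (pullback.snd f g) (Spec.map (CommRingCat.ofHom (ψ i))) w = closedPoint (V i) →
      FlatMod.IsFlatOverAt (pullback.snd (pullback.snd f g) (Spec.map (CommRingCat.ofHom (ψ i))))
        ((Scheme.Modules.pullback (pullback.fst (pullback.snd f g) (Spec.map (CommRingCat.ofHom (ψ i))))).obj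
          ((Scheme.Modules.pullback (pullback.fst f g)).obj F)) w) :
    FlatMod.IsFlatOverAt f F (pullback.fst f g z) := by
  let O := Y.presheaf.stalk (f (pullback.fst f g z))
  haveI : IsLocallyNoetherian (pullback f g) :=
    LocallyOfFiniteType.isLocallyNoetherian (pullback.snd f g)
  haveI : IsNoetherianRing ((pullback f g).presheaf.stalk z) := inferInstance
  refine Desc19b.isFlatOverAt_of_baseChange f (pullback.snd f g) (pullback.fst f g) g
    (IsPullback.of_hasPullback f g) F z hg ?_
  let F' := (Scheme.Modules.pullback (pullback.fst f g)).obj F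
  let A := (Spec (CommRingCat.of Ah)).presheaf.stalk (pullback.snd f g z)
  haveI : Module.Finite ((pullback f g).presheaf.stalk z) (F'.presheaf.stalk z) := by
    letI := ((pullback.fst f g).stalkMap z).hom.toAlgebra
    haveI hfin : Module.Finite ((pullback f g).presheaf.stalk z) ((pullback f g).presheaf.stalk z
        ⊗[X.presheaf.stalk (pullback.fst f g z)] F.presheaf.stalk (pullback.fst f g z)) := inferInstance
    let e : F'.presheaf.stalk z ≃ₗ[(pullback f g).presheaf.stalk z] ((pullback f g).presheaf.stalk z)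
        ⊗[X.presheaf.stalk (pullback.fst f g z)] (F.presheaf.stalk (pullback.fst f g z)) :=
      ((ModStalk.pullbackStalkIso (pullback.fst f g) z).app F).toLinearEquiv
    exact Module.Finite.equiv e.symm
  have hgy : ∀ i, pullback.snd f g z = Spec.map (CommRingCat.ofHom (ψ i)) (closedPoint (V i)) := fun i => by
    haveI := hψ i
    rw [hz2]
    exact (IsLocalRing.comap_closedPoint (ψ i)).symm
  have hquot := FlatBC.flat_quot_of_adic_family (pullback.snd f g) F'
    (fun i => Spec.map (CommRingCat.ofHom (ψ i))) (fun i => closedPoint (V i)) z hgy (nilradical A)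
    (fun N => by
      obtain ⟨n, hn⟩ := htop N
      refine ⟨Finset.univ.map ⟨fun i => (i, n), fun a b h => (Prod.ext_iff.1 h).1⟩, ?_⟩
      refine le_trans (le_iInf fun i => ?_) (iInf_comap_baseMap_le V ψ (pullback.snd f g) z hz2 hgy n N hn)
      exact iInf₂_le_of_le (i, n) (Finset.mem_map.2 ⟨i, Finset.mem_univ _, rfl⟩) le_rfl)
    hflat
  have hpt : g (pullback.snd f g z) = f (pullback.fst f g z) := (congrArg (fun φ : pullback f g ⟶ Y => φ z) pullback.condition).symm
  letI := FlatMod.moduleStalkOver (pullback.snd f g) F' z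
  letI := (Y.presheaf.stalkSpecializes (specializes_of_eq hpt) ≫ g.stalkMap (pullback.snd f g z)).hom.toAlgebra
  haveI : Module.Flat O A := by
    refine RingHom.flat_algebraMap_iff.1 ?_
    haveI : IsIso (Y.presheaf.stalkSpecializes (specializes_of_eq hpt)) :=
      inferInstanceAs (IsIso (Y.presheaf.stalkCongr (Inseparable.of_eq hpt).symm).hom)
    rw [RingHom.algebraMap_toAlgebra, CommRingCat.hom_comp]
    exact RingHom.Flat.comp (RingHom.Flat.of_bijective (ConcreteCategory.bijective_of_isIso _)) hg
  obtain ⟨K, _, _, _, hK⟩ := exists_semisimple O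
  haveI hgen := flat_generic f F g z hpt K
  haveI := hquot
  exact FlatBC.flat_of_flat_mod_nilpotent_of_family (F'.presheaf.stalk z) (nilradical A)
    (IsNoetherianRing.isNilpotent_nilradical A) (fun _ : PUnit.{u+1} => A ⊗[O] K)
    fun a ha => includeLeft_injective hK a (ha PUnit.unit)


/-- EGA IV 11.8.1, sufficiency, for modules. -/
theorem isFlatOverAt_of_dvr [LocallyOfFiniteType f] (x : X) [IsNoetherianRing (Y.presheaf.stalk (f x))]
    [_root_.IsReduced (Y.presheaf.stalk (f x))] [Module.Finite (X.presheaf.stalk x) (F.presheaf.stalk x)]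
    (H : ∀ (V : Type u) [CommRing V] [IsDomain V] [IsDiscreteValuationRing V]
      (φ : (Y.presheaf.stalk (f x) : Type u) →+* V) [IsLocalHom φ]
      (w : ↑(pullback f (FlatBC.specTo f x φ))), pullback.fst f (FlatBC.specTo f x φ) w = x →
      pullback.snd f (FlatBC.specTo f x φ) w = closedPoint V →
      FlatMod.IsFlatOverAt (pullback.snd f (FlatBC.specTo f x φ))
        ((Scheme.Modules.pullback (pullback.fst f (FlatBC.specTo f x φ))).obj F) w) :
    FlatMod.IsFlatOverAt f F x := by
  let O := Y.presheaf.stalk (f x)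
  let Ah := AdicCompletion (maximalIdeal O) O
  have hloc : IsLocalHom (algebraMap O Ah) := CommAlg6.isLocalHom_completion O
  haveI := Module.FaithfullyFlat.of_flat_of_isLocalHom (A := O) (B := Ah)
  by_cases hfield : maximalIdeal Ah ∈ minimalPrimes Ah
  · have hF := isField_of_maximal_mem_minimalPrimes (algebraMap O Ah) (FaithfulSMul.algebraMap_injective O Ah) hfield
    letI := hF.toField
    letI := FlatMod.moduleStalkOver f F x
    show Module.Flat (Y.presheaf.stalk (f x)) (F.presheaf.stalk x)
    exact Module.Flat.of_free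
  obtain ⟨ι, hιf, V, iC, iD, iV, ψ, hψ, htop⟩ := exists_dvr_family Ah hfield
  let g : Spec (CommRingCat.of Ah) ⟶ Y := FlatBC.specTo f x (algebraMap O Ah)
  have hfg : f x = g (closedPoint Ah) :=
    FlatBC.specTo_apply f x (algebraMap O Ah) _ (((local_hom_TFAE (algebraMap O Ah)).out 0 4 rfl rfl).1 hloc)
  obtain ⟨z, hz1, hz2⟩ := Scheme.Pullback.exists_preimage_pullback (f := f) (g := g) x (closedPoint Ah) hfg
  haveI : IsNoetherianRing (Y.presheaf.stalk (f (pullback.fst f g z))) := by rw [hz1]; infer_instance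
  haveI : _root_.IsReduced (Y.presheaf.stalk (f (pullback.fst f g z))) := by rw [hz1]; infer_instance
  haveI : Module.Finite (X.presheaf.stalk (pullback.fst f g z)) (F.presheaf.stalk (pullback.fst f g z)) := by
    rw [hz1]; infer_instance
  have h := isFlatOverAt_of_completion_family f F g z hz2 (stalkMap_flat_specTo _) V ψ hψ htop
    fun i w h1 h2 => by
      haveI := hψ i
      haveI := hloc
      exact isFlatOverAt_iterated f g (Spec.map (CommRingCat.ofHom (ψ i)))
        (FlatBC.specTo f x ((ψ i).comp (algebraMap O Ah)))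
        (by simp only [g, FlatBC.specTo, CommRingCat.ofHom_comp, Spec.map_comp, Category.assoc]) F
        x _ (fun w' h1' h2' => H (V i) _ w' h1' h2') w (by rw [h1, hz1]) h2
  rw [hz1] at h
  exact h

end Groth.Agent.EGA43.DvrCrit
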