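import Groth.Prelude.Def_FDesc
import Groth.Prelude.Def_EGA43
import Mathlib.AlgebraicGeometry.Morphisms.UniversallyOpen
import Mathlib.AlgebraicGeometry.Fiber
import Mathlib.RingTheory.Nilpotent.Basic

/-!
# The fibre of a base change over the fibre
-/

set_option autoImplicit false
set_option backward.isDefEq.respectTransparency false
set_option linter.style.haveILetI false

universe u

open CategoryTheory CategoryTheory.Limits AlgebraicGeometry

namespace Groth.Agent.EGA43.DvrCrit

variable {X Y S : Scheme.{u}} (f : X ⟶ Y) (g : S ⟶ Y)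

/-- The residue field extension of a point of a base change. -/
noncomputable def resExt {y : Y} (s : S) (h : g s = y) : Y.residueField y ⟶ S.residueField s :=
  (Y.residueFieldCongr h.symm).hom ≫ g.residueFieldMap s

theorem specMap_resExt {y : Y} (s : S) (h : g s = y) :
    Spec.map (resExt g s h) ≫ Y.fromSpecResidueField y = S.fromSpecResidueField s ≫ g := by
  subst h
  simp [resExt]

/-- The fibre of a base change is the base change of the fibre. -/
theorem exists_fiber_iso {y : Y} (s : S) (h : g s = y) :
    letI : Algebra (IsLocalRing.ResidueField (Y.presheaf.stalk y)) (S.residueField s) := (resExt g s h).hom.toAlgebra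
    ∃ e : (pullback.snd f g).fiber s ≅ FBase.bc (f.fiberToSpecResidueField y) (S.residueField s),
      e.hom ≫ FBase.bcπ (f.fiberToSpecResidueField y) (S.residueField s) ≫ f.fiberι y =
        (pullback.snd f g).fiberι s ≫ pullback.fst f g := by
  letI : Algebra (IsLocalRing.ResidueField (Y.presheaf.stalk y)) (S.residueField s) := (resExt g s h).hom.toAlgebra
  let κ := Spec.map (CommRingCat.ofHom (algebraMap (IsLocalRing.ResidueField (Y.presheaf.stalk y)) (S.residueField s)))
  have hκ : S.fromSpecResidueField s ≫ g = κ ≫ Y.fromSpecResidueField y := (specMap_resExt g s h).symm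
  let e : pullback (pullback.snd f g) (S.fromSpecResidueField s) ≅
      pullback (pullback.snd f (Y.fromSpecResidueField y)) κ :=
    pullbackLeftPullbackSndIso f g (S.fromSpecResidueField s) ≪≫ pullback.congrHom rfl hκ ≪≫
      (pullbackLeftPullbackSndIso f (Y.fromSpecResidueField y) κ).symm
  refine ⟨e, ?_⟩
  show e.hom ≫ pullback.fst (pullback.snd f (Y.fromSpecResidueField y)) κ ≫
      pullback.fst f (Y.fromSpecResidueField y) =
    pullback.fst (pullback.snd f g) (S.fromSpecResidueField s) ≫ pullback.fst f g
  simp [e, pullbackLeftPullbackSndIso_inv_fst, pullback.congrHom_hom, pullback.lift_fst]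

/-- Geometric reducedness at a point gives reducedness of the fibre of any base change above it. -/
theorem isReduced_fiber_baseChange (w : ↑(pullback f g)) {x : X} (hx : pullback.fst f g w = x)
    (hred : FBase.IsGeomReducedAt (f.fiberToSpecResidueField (f x)) (f.asFiber x)) :
    _root_.IsReduced (((pullback.snd f g).fiber (pullback.snd f g w)).presheaf.stalk
      ((pullback.snd f g).asFiber w)) := by
  have h : g (pullback.snd f g w) = f x := by
    rw [← hx, ← Scheme.Hom.comp_apply, ← Scheme.Hom.comp_apply, pullback.condition]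
  letI : Algebra (IsLocalRing.ResidueField (Y.presheaf.stalk (f x))) (S.residueField (pullback.snd f g w)) :=
    (resExt g _ h).hom.toAlgebra
  obtain ⟨e, he⟩ := exists_fiber_iso f g (pullback.snd f g w) h
  haveI := hred (S.residueField (pullback.snd f g w)) (e.hom ((pullback.snd f g).asFiber w)) (by
    apply (f.fiberι (f x)).isEmbedding.injective
    rw [f.fiberι_asFiber]
    show (FBase.bcπ (f.fiberToSpecResidueField (f x)) (S.residueField (pullback.snd f g w)) ≫ f.fiberι (f x))
      (e.hom ((pullback.snd f g).asFiber w)) = x
    rw [← Scheme.Hom.comp_apply, he, Scheme.Hom.comp_apply, Scheme.Hom.fiberι_asFiber, hx])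
  exact isReduced_of_injective (e.hom.stalkMap _ |> asIso).commRingCatIsoToRingEquiv.symm.toRingHom
    (e.hom.stalkMap _ |> asIso).commRingCatIsoToRingEquiv.symm.injective

/-- Generic points of the fibres of a base change map to generic points of the fibre. -/
theorem exists_generic_image (w : ↑(pullback f g)) {x : X} (hx : pullback.fst f g w = x)
    (z' : ↑((pullback.snd f g).fiber (pullback.snd f g w)))
    (hsp : z' ⤳ (pullback.snd f g).asFiber w) (hmax : ∀ t, t ⤳ z' → t = z') :
    ∃ z : ↑(f.fiber (f x)), z ⤳ f.asFiber x ∧ (∀ t, t ⤳ z → t = z) ∧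
      pullback.fst f g ((pullback.snd f g).fiberι _ z') = f.fiberι (f x) z := by
  have h : g (pullback.snd f g w) = f x := by
    rw [← hx, ← Scheme.Hom.comp_apply, ← Scheme.Hom.comp_apply, pullback.condition]
  letI : Algebra (IsLocalRing.ResidueField (Y.presheaf.stalk (f x))) (S.residueField (pullback.snd f g w)) :=
    (resExt g _ h).hom.toAlgebra
  obtain ⟨e, he⟩ := exists_fiber_iso f g (pullback.snd f g w) h
  haveI : Flat (Spec.map (CommRingCat.ofHom (algebraMap (IsLocalRing.ResidueField (Y.presheaf.stalk (f x)))
      (S.residueField (pullback.snd f g w))))) :=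
    (HasRingHomProperty.Spec_iff (P := @Flat)).2 (RingHom.flat_algebraMap_iff.2 Module.Flat.of_free)
  haveI : Flat (FBase.bcπ (f.fiberToSpecResidueField (f x)) (S.residueField (pullback.snd f g w))) :=
    inferInstanceAs (Flat (pullback.fst _ _))
  let π := e.hom ≫ FBase.bcπ (f.fiberToSpecResidueField (f x)) (S.residueField (pullback.snd f g w))
  have hπ : ∀ t, f.fiberι (f x) (π t) = pullback.fst f g ((pullback.snd f g).fiberι _ t) := fun t => by
    rw [← Scheme.Hom.comp_apply, Category.assoc, he, Scheme.Hom.comp_apply]
  refine ⟨π z', ?_, fun t ht => ?_, (hπ z').symm⟩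
  · have h1 : π ((pullback.snd f g).asFiber w) = f.asFiber x := by
      apply (f.fiberι (f x)).isEmbedding.injective
      rw [hπ, f.fiberι_asFiber, Scheme.Hom.fiberι_asFiber, hx]
    exact h1 ▸ hsp.map π.continuous
  · obtain ⟨t', ht', rfl⟩ := Flat.generalizingMap π ht
    rw [hmax t' ht']

end Groth.Agent.EGA43.DvrCrit
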