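import Groth.Agent.EGA43.FibDepth.Unit

/-!
# Flatness of the pulled back structure module
-/

set_option autoImplicit false
set_option backward.isDefEq.respectTransparency false
set_option linter.style.haveILetI false

universe u

open CategoryTheory CategoryTheory.Limits AlgebraicGeometry TensorProduct

namespace Groth.Agent.EGA43.DvrCrit

/-- The pullback of the structure module is flat over the base exactly where the morphism is. -/
theorem isFlatOverAt_pullback_structureModule {W X T : Scheme.{u}} (g : W ⟶ X) (h : W ⟶ T) (w : W) :
    FlatMod.IsFlatOverAt h ((Scheme.Modules.pullback g).obj (Coh.structureModule X)) w ↔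
      (h.stalkMap w).hom.Flat := by
  letI : Algebra (X.presheaf.stalk (g w)) (W.presheaf.stalk w) := (g.stalkMap w).hom.toAlgebra
  let e1 : ((Scheme.Modules.pullback g).obj (Coh.structureModule X)).presheaf.stalk w ≃ₗ[W.presheaf.stalk w]
      (W.presheaf.stalk w) ⊗[X.presheaf.stalk (g w)] ((Coh.structureModule X).presheaf.stalk (g w)) :=
    ((ModStalk.pullbackStalkIso g w).app (Coh.structureModule X)).toLinearEquiv
  let e := FibDepth.tensorUnitEquiv e1 (FibDepth.unitStalkEquiv (g w))
  letI := (h.stalkMap w).hom.toAlgebra
  letI := FlatMod.moduleStalkOver h ((Scheme.Modules.pullback g).obj (Coh.structureModule X)) w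
  haveI : IsScalarTower (T.presheaf.stalk (h w)) (W.presheaf.stalk w)
      (((Scheme.Modules.pullback g).obj (Coh.structureModule X)).presheaf.stalk w) :=
    IsScalarTower.of_compHom _ _ _
  exact Module.Flat.equiv_iff (e.restrictScalars (T.presheaf.stalk (h w)))

end Groth.Agent.EGA43.DvrCrit
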