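import Groth.Agent.EGA43.DvrCrit.Main
import Groth.Agent.EGA43.DvrCrit.Structure
import Groth.Agent.EGA43.DvrCrit.GeomFibre
import Groth.Agent.EGA43.DvrFlat.Basic

/-!
# EGA IV 15.2.3: open and geometrically reduced fibre give flatness over a reduced base
-/

set_option autoImplicit false
set_option backward.isDefEq.respectTransparency false
set_option linter.style.haveILetI false

universe u

open CategoryTheory CategoryTheory.Limits AlgebraicGeometry IsLocalRing

namespace Groth.Agent.EGA43.DvrCrit

variable {X Y : Scheme.{u}} (f : X ⟶ Y)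

/-- Over a discrete valuation ring mapping to the base, the base change is flat with reduced stalk. -/
theorem flat_and_isReduced_baseChange [LocallyOfFiniteType f] (x : X)
    (hopen : ∀ z : ↥(f.fiber (f x)), f.asFiber x ∈ closure {z} →
      (∀ z' : ↥(f.fiber (f x)), z ∈ closure {z'} → z' = z) → EGA43.IsUnivOpenAt f (f.fiberι (f x) z))
    (hred : FBase.IsGeomReducedAt (f.fiberToSpecResidueField (f x)) (f.asFiber x))
    {V : Type u} [CommRing V] [IsDomain V] [IsDiscreteValuationRing V] (g : Spec (CommRingCat.of V) ⟶ Y)
    (w : ↑(pullback f g)) (hw : pullback.fst f g w = x) (hw' : pullback.snd f g w = closedPoint V) :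
    ((pullback.snd f g).stalkMap w).hom.Flat ∧ _root_.IsReduced ((pullback f g).presheaf.stalk w) := by
  refine DvrFlat.flat_and_isReduced_of_openAt (pullback.snd f g) w hw' (fun z' hz' hmax => ?_)
    (isReduced_fiber_baseChange f g w hw hred)
  obtain ⟨z, hz, hzmax, hzz⟩ := exists_generic_image f g w hw z' (specializes_iff_mem_closure.2 hz')
    fun t ht => hmax t (specializes_iff_mem_closure.1 ht)
  exact hopen z (specializes_iff_mem_closure.1 hz)
    (fun t ht => hzmax t (specializes_iff_mem_closure.2 ht)) _ g _ hzz

/-- EGA IV 15.2.3. -/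
theorem flat_stalkMap_of_univOpen_of_geomReduced [LocallyOfFiniteType f] (x : X)
    [IsNoetherianRing (Y.presheaf.stalk (f x))] (hy : _root_.IsReduced (Y.presheaf.stalk (f x)))
    (hopen : ∀ z : ↥(f.fiber (f x)), f.asFiber x ∈ closure {z} →
      (∀ z' : ↥(f.fiber (f x)), z ∈ closure {z'} → z' = z) → EGA43.IsUnivOpenAt f (f.fiberι (f x) z))
    (hred : FBase.IsGeomReducedAt (f.fiberToSpecResidueField (f x)) (f.asFiber x)) :
    (f.stalkMap x).hom.Flat := by
  haveI : Module.Finite (X.presheaf.stalk x) ((Coh.structureModule X).presheaf.stalk x) :=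
    Module.Finite.equiv (FibDepth.unitStalkEquiv x)
  refine (FibDepth.isFlatOverAt_structureModule f x).1 (isFlatOverAt_of_dvr f (Coh.structureModule X) x ?_)
  intro V _ _ _ φ _ w h1 h2
  exact (isFlatOverAt_pullback_structureModule _ _ w).2
    (flat_and_isReduced_baseChange f x hopen hred _ w h1 h2).1

/-- A universally open morphism is universally open at every point. -/
theorem isUnivOpenAt_of_universallyOpen [UniversallyOpen f] (x : X) : EGA43.IsUnivOpenAt f x := by
  intro Y' g x' _ U hU
  exact IsOpenMap.image_mem_nhds (pullback.snd f g).isOpenMap hU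

end Groth.Agent.EGA43.DvrCrit
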