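import Groth.Agent.EGA43.DimFormula.Core
import Groth.Agent.EGA43.FibDepth.GeomOpen
import Groth.Agent.EGA43.DvrCrit.GeomFibre
import Groth.Agent.EGA43.CMChart.Main
import Groth.Agent.Props12.Stalks
import Groth.Agent.VarietyLib.AffineNhd
import Mathlib.RingTheory.Ideal.AssociatedPrime.Finiteness

/-!
# EGA IV 3.3.5: reduced base and reduced fibres give a reduced total space
-/

set_option autoImplicit false
set_option backward.isDefEq.respectTransparency false
set_option linter.style.haveILetI false

universe u

open CategoryTheory CategoryTheory.Limits AlgebraicGeometry IsLocalRing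

namespace Groth.Agent.EGA43.DvrCrit

open Groth.Agent.EGA43.DimFormula

/-- Associated primes of a flat algebra over a reduced ring lie over minimal primes. -/
theorem comap_mem_minimalPrimes {A B : Type u} [CommRing A] [IsNoetherianRing A] [_root_.IsReduced A]
    [CommRing B] [IsNoetherianRing B] [Algebra A B] [Module.Flat A B] {P : Ideal B} (hP : IsAssociatedPrime P B) :
    P.comap (algebraMap A B) ∈ minimalPrimes A := by
  classical
  haveI := hP.isPrime
  have hfin := minimalPrimes.finite_of_isNoetherianRing A
  have hsub : ((P.comap (algebraMap A B) : Ideal A) : Set A) ⊆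
      ⋃ q ∈ (↑hfin.toFinset : Set (Ideal A)), (q : Set A) := by
    intro a (ha : algebraMap A B a ∈ P)
    by_contra hne
    have hreg : IsSMulRegular A a := by
      refine fun u v huv => sub_eq_zero.1 ((mem_nilradical.1 ?_).eq_zero)
      rw [nilradical_eq_sInf, Ideal.mem_sInf]
      intro p (hp : p.IsPrime)
      obtain ⟨q, hq, hqp⟩ := Ideal.exists_minimalPrimes_le (J := p) (bot_le : (⊥ : Ideal A) ≤ p)
      haveI := hq.1.1
      refine hqp ((‹q.IsPrime›.mem_or_mem (x := a) ?_).resolve_left fun h => hne ?_)
      · rw [mul_sub, show a * u = a * v from huv, sub_self]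
        exact zero_mem q
      · exact Set.mem_biUnion (x := q) (hfin.mem_toFinset.2 hq) h
    have hregB : IsSMulRegular B a := by
      have h := Module.Flat.lTensor_preserves_injective_linearMap (M := B) (LinearMap.lsmul A A a) hreg
      intro u v huv
      apply (TensorProduct.rid A B).symm.injective
      apply h
      simp only [TensorProduct.rid_symm_apply, LinearMap.lTensor_tmul, LinearMap.lsmul_apply]
      rw [TensorProduct.tmul_smul, TensorProduct.tmul_smul, TensorProduct.smul_tmul', TensorProduct.smul_tmul',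
        show a • u = a • v from huv]
    have hz : algebraMap A B a ∈ {r : B | ∃ x : B, x ≠ 0 ∧ r • x = 0} := by
      rw [← biUnion_associatedPrimes_eq_zero_divisors B B]
      exact Set.mem_biUnion (x := P) hP ha
    obtain ⟨m, hm, hm0⟩ := hz
    rw [algebraMap_smul] at hm0
    exact hm (hregB (show a • m = a • (0 : B) by rw [hm0, smul_zero]))
  obtain ⟨q, hq, hle⟩ := (Ideal.subset_union_prime (f := fun q : Ideal A => q) ⊥ ⊥
    fun q hq _ _ => (hfin.mem_toFinset.1 hq).1.1).1 hsub
  have hq' := hfin.mem_toFinset.1 hq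
  exact (le_antisymm hle (hq'.2 ⟨inferInstance, bot_le⟩ hle)) ▸ hq'

/-- A local ring injecting compatibly in the localisation at a minimal prime of a reduced ring is a field. -/
theorem maximalIdeal_eq_bot_of_minimal {R T : Type u} [CommRing R] [_root_.IsReduced R] (q : Ideal R) [q.IsPrime]
    (hq : q ∈ minimalPrimes R) [CommRing T] [IsLocalRing T] (e : T ≃+* Localization.AtPrime q) :
    maximalIdeal T = ⊥ := by
  haveI : _root_.IsReduced (Localization.AtPrime q) :=
    isReduced_localizationPreserves q.primeCompl (Localization.AtPrime q) inferInstance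
  refine le_bot_iff.1 fun a ha => ?_
  have h1 : e a ∈ maximalIdeal (Localization.AtPrime q) := fun hu => ha (by simpa using hu.map e.symm)
  refine e.injective ((IsNilpotent.eq_zero (mem_nilradical.1 ?_)).trans (map_zero e).symm)
  rw [nilradical_eq_sInf, Ideal.mem_sInf]
  intro p (hp : p.IsPrime)
  have hd : Disjoint (q.primeCompl : Set R) ↑(p.comap (algebraMap R (Localization.AtPrime q))) :=
    ((IsLocalization.isPrime_iff_isPrime_disjoint q.primeCompl _ p).1 hp).2
  have hpq : p.comap (algebraMap R (Localization.AtPrime q)) ≤ q := fun r hr => by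
    by_contra hrq
    exact hd.le_bot ⟨hrq, hr⟩
  rw [← IsLocalization.map_under q.primeCompl _ p, Ideal.under_def, le_antisymm hpq (hq.2 ⟨inferInstance, bot_le⟩ hpq),
    IsLocalization.AtPrime.map_eq_maximalIdeal q]
  exact h1

/-- A nilpotent dies in a reduced localisation. -/
theorem exists_mul_eq_zero_of_reduced {R T : Type u} [CommRing R] (P : Ideal R) [P.IsPrime] [CommRing T]
    [_root_.IsReduced T] (e : T ≃+* Localization.AtPrime P) {b : R} (hb : IsNilpotent b) :
    ∃ s, s ∉ P ∧ s * b = 0 := by
  haveI : _root_.IsReduced (Localization.AtPrime P) := isReduced_of_injective e.symm.toRingHom e.symm.injective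
  obtain ⟨s, hs⟩ := (IsLocalization.map_eq_zero_iff P.primeCompl (Localization.AtPrime P) b).1 (hb.map _).eq_zero
  exact ⟨s, s.2, hs⟩

theorem nonempty_specStalk_equiv (R : CommRingCat.{u}) (P : PrimeSpectrum R) :
    Nonempty ((Spec R).presheaf.stalk P ≃+* Localization.AtPrime P.asIdeal) := by
  letI : Algebra R ((Spec R).presheaf.stalk P) := (StructureSheaf.toStalk R P).hom.toAlgebra
  haveI : IsLocalization.AtPrime ((Spec R).presheaf.stalk P) P.asIdeal :=
    StructureSheaf.IsLocalization.to_stalk _ P
  exact ⟨(IsLocalization.algEquiv P.asIdeal.primeCompl _ (Localization.AtPrime P.asIdeal)).toRingEquiv⟩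

variable {X Y : Scheme.{u}} (f : X ⟶ Y)

/-- The stalk at a generisation is a localisation of the stalk. -/
theorem nonempty_stalk_equiv_toPt (x : X) (P : PrimeSpectrum (X.presheaf.stalk x)) :
    Nonempty (X.presheaf.stalk (toPt x P) ≃+* Localization.AtPrime P.asIdeal) := by
  haveI : Flat (X.fromSpecStalk x) := Props12.flat_fromSpecStalk x
  have h := VarietyLib.isIso_stalkMap_of_flat_of_isPreimmersion (X.fromSpecStalk x) P
  obtain ⟨e⟩ := nonempty_specStalk_equiv (X.presheaf.stalk x) P
  exact ⟨(@asIso _ _ _ _ _ h).commRingCatIsoToRingEquiv.trans e⟩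

/-- A flat point is reduced if the fibres at its generisations over maximal points are. -/
theorem isReduced_stalk_of_flat (x : X) [IsNoetherianRing (Y.presheaf.stalk (f x))]
    [IsNoetherianRing (X.presheaf.stalk x)] (hy : _root_.IsReduced (Y.presheaf.stalk (f x)))
    (hf : (f.stalkMap x).hom.Flat)
    (hfib : ∀ x', x' ⤳ x → _root_.IsReduced ((f.fiber (f x')).presheaf.stalk (f.asFiber x'))) :
    _root_.IsReduced (X.presheaf.stalk x) := by
  letI := (f.stalkMap x).hom.toAlgebra
  haveI : Module.Flat (Y.presheaf.stalk (f x)) (X.presheaf.stalk x) := hf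
  refine ⟨fun b hb => ?_⟩
  by_contra hne
  obtain ⟨P, hP, hle⟩ := exists_le_isAssociatedPrime_of_isNoetherianRing (X.presheaf.stalk x) b hne
  haveI := hP.isPrime
  let P' : PrimeSpectrum (X.presheaf.stalk x) := ⟨P, hP.isPrime⟩
  have hmin := comap_mem_minimalPrimes (A := Y.presheaf.stalk (f x)) hP
  -- the local ring of the base at the image is a field
  let q : PrimeSpectrum (Y.presheaf.stalk (f x)) := PrimeSpectrum.comap (f.stalkMap x).hom P'
  obtain ⟨eY⟩ := nonempty_stalk_equiv_toPt (f x) q
  have hzero : maximalIdeal (Y.presheaf.stalk (toPt (f x) q)) = ⊥ :=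
    maximalIdeal_eq_bot_of_minimal q.asIdeal hmin eY
  -- so the stalk upstairs is the reduced stalk of the fibre
  let x' := toPt x P'
  have hm' : (maximalIdeal (Y.presheaf.stalk (f x'))).map (f.stalkMap x').hom = ⊥ := by
    have h : maximalIdeal (Y.presheaf.stalk (f x')) = ⊥ := by
      rw [show f x' = toPt (f x) q from apply_toPt f x P']
      exact hzero
    rw [h, Ideal.map_bot]
  obtain ⟨eq⟩ := CMChart.exists_fibre_stalk_equiv f x'
  haveI := hfib x' (toPt_specializes x P')
  haveI : _root_.IsReduced (X.presheaf.stalk x') := by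
    haveI : _root_.IsReduced (X.presheaf.stalk x' ⧸ (maximalIdeal (Y.presheaf.stalk (f x'))).map (f.stalkMap x').hom) :=
      isReduced_of_injective eq.toRingHom eq.injective
    exact isReduced_of_injective (Ideal.Quotient.mk ((maximalIdeal (Y.presheaf.stalk (f x'))).map (f.stalkMap x').hom))
      (by rw [RingHom.injective_iff_ker_eq_bot, Ideal.mk_ker, hm'])
  obtain ⟨eX⟩ := nonempty_stalk_equiv_toPt x P'
  obtain ⟨s, hs1, hs⟩ := exists_mul_eq_zero_of_reduced P'.asIdeal eX hb
  refine hs1 (hle ?_)
  rw [Submodule.mem_colon_singleton, Submodule.mem_bot]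
  exact hs

end Groth.Agent.EGA43.DvrCrit

namespace Groth.Agent.EGA43.DvrCrit

open Groth.Agent.EGA43.DimFormula

/-- A geometrically reduced fibre has reduced local ring. -/
theorem isReduced_fiber_stalk {X Y : Scheme.{u}} (f : X ⟶ Y) (x : X)
    (hred : FBase.IsGeomReducedAt (f.fiberToSpecResidueField (f x)) (f.asFiber x)) :
    _root_.IsReduced ((f.fiber (f x)).presheaf.stalk (f.asFiber x)) := by
  letI : Algebra (IsLocalRing.ResidueField (Y.presheaf.stalk (f x))) (Y.residueField (f x)) :=
    (resExt (𝟙 Y) (f x) (rfl : (𝟙 Y) (f x) = f x)).hom.toAlgebra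
  let π := FBase.bcπ (f.fiberToSpecResidueField (f x)) (Y.residueField (f x))
  haveI : IsIso (Spec.map (CommRingCat.ofHom (algebraMap (IsLocalRing.ResidueField (Y.presheaf.stalk (f x)))
      (Y.residueField (f x))))) := by
    show IsIso (Spec.map (resExt (𝟙 Y) (f x) (rfl : (𝟙 Y) (f x) = f x)))
    haveI : IsIso (resExt (𝟙 Y) (f x) (rfl : (𝟙 Y) (f x) = f x)) := by
      simp [resExt]
      infer_instance
    infer_instance
  haveI : IsIso π := inferInstanceAs (IsIso (pullback.fst _ _))
  obtain ⟨t, ht⟩ := (asIso π).hom.homeomorph.surjective (f.asFiber x)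
  haveI := hred (Y.residueField (f x)) t ht
  have key : _root_.IsReduced ((f.fiber (f x)).presheaf.stalk (π t)) :=
    isReduced_of_injective (asIso (π.stalkMap t)).commRingCatIsoToRingEquiv.toRingHom
      (asIso (π.stalkMap t)).commRingCatIsoToRingEquiv.injective
  rwa [show π t = f.asFiber x from ht] at key

end Groth.Agent.EGA43.DvrCrit
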