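import Groth.Agent.EGA43.DvrCrit.OpenFlat
import Groth.Agent.EGA43.DvrCrit.ReducedStalk
import Groth.Agent.H8Lim.OpenImmersions

/-!
# EGA IV 15.2.3: the open neighbourhood where `f` is flat and `X` reduced
-/

set_option autoImplicit false
set_option backward.isDefEq.respectTransparency false
set_option linter.style.haveILetI false

universe u

open CategoryTheory CategoryTheory.Limits AlgebraicGeometry IsLocalRing

namespace Groth.Agent.EGA43.DvrCrit

variable {X Y : Scheme.{u}} (f : X ⟶ Y) [IsLocallyNoetherian Y] [LocallyOfFiniteType f]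

/-- The locus: flat, geometrically reduced fibre, over a reduced point of the base. -/
theorem isOpen_goodLocus :
    IsOpen {x : X | ((f.stalkMap x).hom.Flat ∧
      FBase.IsGeomReducedAt (f.fiberToSpecResidueField (f x)) (f.asFiber x)) ∧
      _root_.IsReduced (Y.presheaf.stalk (f x))} := by
  haveI : LocallyOfFinitePresentation f := inferInstance
  have h : IsOpen {y : Y | _root_.IsReduced (Y.presheaf.stalk y)} :=
    H8Lim.isOpen_setOf_isReduced_stalk fun U =>
      haveI := IsLocallyNoetherian.component_noetherian U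
      IsNoetherian.noetherian _
  exact (FibDepth.isOpen_flat_isGeomReducedAt f).inter (h.preimage f.continuous)

theorem isReduced_stalk_of_goodLocus {x : X} (hx : x ∈ {x : X | ((f.stalkMap x).hom.Flat ∧
      FBase.IsGeomReducedAt (f.fiberToSpecResidueField (f x)) (f.asFiber x)) ∧
      _root_.IsReduced (Y.presheaf.stalk (f x))}) :
    _root_.IsReduced (X.presheaf.stalk x) := by
  haveI : IsLocallyNoetherian X := LocallyOfFiniteType.isLocallyNoetherian f
  refine isReduced_stalk_of_flat f x hx.2 hx.1.1 fun x' hx' => isReduced_fiber_stalk f x' ?_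
  exact (hx'.mem_open (isOpen_goodLocus f) hx).1.2

/-- EGA IV 15.2.3, neighbourhood form. -/
theorem exists_open_flat_reduced (x : X)
    (hopen : ∀ z : ↥(f.fiber (f x)), f.asFiber x ∈ closure {z} →
      (∀ z' : ↥(f.fiber (f x)), z ∈ closure {z'} → z' = z) → EGA43.IsUnivOpenAt f (f.fiberι (f x) z))
    (hred : FBase.IsGeomReducedAt (f.fiberToSpecResidueField (f x)) (f.asFiber x))
    (hy : _root_.IsReduced (Y.presheaf.stalk (f x))) :
    ∃ U : X.Opens, x ∈ U ∧ Flat (U.ι ≫ f) ∧ IsReduced (U : Scheme.{u}) := by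
  refine ⟨⟨_, isOpen_goodLocus f⟩, ⟨⟨flat_stalkMap_of_univOpen_of_geomReduced f x hy hopen hred, hred⟩, hy⟩, ?_, ?_⟩
  · refine Flat.of_stalkMap _ fun u => ?_
    rw [Scheme.Hom.stalkMap_comp, CommRingCat.hom_comp]
    exact RingHom.Flat.comp u.2.1.1 (RingHom.Flat.of_bijective (ConcreteCategory.bijective_of_isIso _))
  · have hst : ∀ u : (Scheme.Opens.toScheme (⟨_, isOpen_goodLocus f⟩ : X.Opens)),
        _root_.IsReduced ((Scheme.Opens.toScheme (⟨_, isOpen_goodLocus f⟩ : X.Opens)).presheaf.stalk u) := fun u => by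
      haveI := isReduced_stalk_of_goodLocus f u.2
      exact isReduced_of_injective (Scheme.Opens.stalkIso (⟨_, isOpen_goodLocus f⟩ : X.Opens) u).commRingCatIsoToRingEquiv.toRingHom
        (Scheme.Opens.stalkIso (⟨_, isOpen_goodLocus f⟩ : X.Opens) u).commRingCatIsoToRingEquiv.injective
    exact isReduced_of_isReduced_stalk _

end Groth.Agent.EGA43.DvrCrit
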