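import Groth.Agent.EGA43.FlatBC.Adic
import Groth.Agent.FlatCrit.Inj

/-!
# EGA IV 11.8.1: flatness modulo an ideal, detected by a family of base changes
-/

set_option autoImplicit false
set_option backward.isDefEq.respectTransparency false
set_option linter.style.haveILetI false

universe u

open CategoryTheory CategoryTheory.Limits AlgebraicGeometry IsLocalRing
open scoped TensorProduct

namespace Groth.Agent.EGA43.FlatBC

/-- `QuotFlat` modulo all `J ⊔ mⁿ` gives flatness of `M/JM` over `A/J`. -/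
theorem flat_quot_of_quotFlat_pow {A B M : Type u} [CommRing A] [IsNoetherianRing A] [IsLocalRing A]
    [CommRing B] [IsNoetherianRing B] [IsLocalRing B] [Algebra A B] [IsLocalHom (algebraMap A B)]
    [AddCommGroup M] [Module A M] [Module B M] [IsScalarTower A B M] [Module.Finite B M]
    (J : Ideal A) (h : ∀ n : ℕ, FlatCrit.QuotFlat A M (J ⊔ maximalIdeal A ^ n)) :
    Module.Flat (A ⧸ J) ((A ⧸ J) ⊗[A] M) := by
  rcases eq_or_ne J ⊤ with rfl | hJ
  · infer_instance
  have hJm : J ≤ maximalIdeal A := le_maximalIdeal hJ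
  let J' := J.map (algebraMap A B)
  have hJ' : J' ≤ maximalIdeal B :=
    Ideal.map_le_iff_le_comap.2 (hJm.trans fun r hr => map_nonunit _ r hr)
  haveI : Nontrivial (B ⧸ J') := Ideal.Quotient.nontrivial_iff.2 fun h =>
    (maximalIdeal.isMaximal B).ne_top (top_le_iff.1 (h ▸ hJ'))
  haveI : IsLocalRing (B ⧸ J') := .of_surjective' (Ideal.Quotient.mk J') Ideal.Quotient.mk_surjective
  haveI : IsLocalHom (Ideal.Quotient.mk J') := IsLocalHom.of_surjective _ Ideal.Quotient.mk_surjective
  let M' := (B ⧸ J') ⊗[B] M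
  letI : Algebra (A ⧸ J) (B ⧸ J') :=
    (Ideal.Quotient.lift J (algebraMap A (B ⧸ J')) fun a ha =>
      Ideal.Quotient.eq_zero_iff_mem.2 (Ideal.mem_map_of_mem _ ha)).toAlgebra
  haveI : IsScalarTower A (A ⧸ J) (B ⧸ J') := IsScalarTower.of_algebraMap_eq fun _ => rfl
  letI : Module (A ⧸ J) M' := Module.compHom M' (algebraMap (A ⧸ J) (B ⧸ J'))
  haveI : IsScalarTower (A ⧸ J) (B ⧸ J') M' := IsScalarTower.of_compHom _ _ _
  haveI : IsScalarTower A (A ⧸ J) M' := IsScalarTower.of_algebraMap_smul fun a v => by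
    show Ideal.Quotient.mk J' (algebraMap A B a) • v = a • v
    rw [← Ideal.Quotient.algebraMap_eq, algebraMap_smul, algebraMap_smul]
  let incl : M →ₗ[A] M' := ((TensorProduct.mk B (B ⧸ J') M 1).restrictScalars A)
  let e₀ : (A ⧸ J) ⊗[A] M →ₗ[A ⧸ J] M' := LinearMap.liftBaseChange (A ⧸ J) incl
  have he : Function.Bijective e₀ := by
    have hsurj : Function.Surjective e₀ := by
      intro v
      obtain ⟨m, rfl⟩ := TensorProduct.mk_surjective B M (B ⧸ J') Ideal.Quotient.mk_surjective v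
      refine ⟨1 ⊗ₜ m, ?_⟩
      rw [LinearMap.liftBaseChange_tmul, one_smul]
      rfl
    refine ⟨?_, hsurj⟩
    rw [← LinearMap.ker_eq_bot, LinearMap.ker_eq_bot']
    intro v hv
    obtain ⟨m, rfl⟩ := TensorProduct.mk_surjective A M (A ⧸ J) Ideal.Quotient.mk_surjective v
    have hm : m ∈ (J' • ⊤ : Submodule B M) := by
      rw [← LinearMap.ker_tensorProductMk, LinearMap.mem_ker]
      rw [TensorProduct.mk_apply, LinearMap.liftBaseChange_tmul, one_smul] at hv
      exact hv
    rw [← LinearMap.mem_ker, LinearMap.ker_tensorProductMk]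
    have h2 : m ∈ Submodule.restrictScalars A (J' • ⊤ : Submodule B M) := hm
    rwa [Ideal.smul_restrictScalars (R := A) J (⊤ : Submodule B M), Submodule.restrictScalars_top] at h2
  let e := LinearEquiv.ofBijective e₀ he
  suffices Module.Flat (A ⧸ J) M' from Module.Flat.of_linearEquiv e
  refine FlatCrit.flat_of_quotFlat_pow (S := B ⧸ J') ((maximalIdeal A).map (Ideal.Quotient.mk J)) ?_ fun n => ?_
  · rw [IsLocalRing.jacobson_eq_maximalIdeal ⊥ bot_ne_top, Ideal.map_map, Ideal.map_le_iff_le_comap]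
    intro r hr
    show Ideal.Quotient.mk J' (algebraMap A B r) ∈ maximalIdeal _
    exact map_nonunit _ _ (map_nonunit _ r hr)
  intro P Q _ _ _ _ i hQ hi
  letI : Module A P := Module.compHom P (Ideal.Quotient.mk J)
  letI : Module A Q := Module.compHom Q (Ideal.Quotient.mk J)
  haveI : IsScalarTower A (A ⧸ J) P := IsScalarTower.of_algebraMap_smul fun _ _ => rfl
  haveI : IsScalarTower A (A ⧸ J) Q := IsScalarTower.of_algebraMap_smul fun _ _ => rfl
  have hP := h n (i.restrictScalars A) (fun r hr b => by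
    show Ideal.Quotient.mk J r • b = 0
    refine hQ _ ?_ b
    have h3 : Ideal.Quotient.mk J r ∈ (J ⊔ maximalIdeal A ^ n).map (Ideal.Quotient.mk J) :=
      Ideal.mem_map_of_mem _ hr
    rw [Ideal.map_sup, Ideal.map_quotient_self, bot_sup_eq, Ideal.map_pow] at h3
    exact h3) hi
  let eP := (LinearEquiv.lTensor P e.symm).trans
    ((TensorProduct.AlgebraTensorModule.cancelBaseChange A (A ⧸ J) (A ⧸ J) P M))
  let eQ := (LinearEquiv.lTensor Q e.symm).trans
    ((TensorProduct.AlgebraTensorModule.cancelBaseChange A (A ⧸ J) (A ⧸ J) Q M))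
  have hc : ∀ x, eQ (i.rTensor M' x) = (i.restrictScalars A).rTensor M (eP x) := by
    intro x
    obtain ⟨y, rfl⟩ := (LinearEquiv.lTensor P e).surjective x
    induction y with
    | zero => simp
    | add a b ha hb => simp only [map_add, ha, hb]
    | tmul p v =>
      induction v with
      | zero => simp
      | add a b ha hb => simp only [TensorProduct.tmul_add, map_add, ha, hb]
      | tmul r m => simp [eP, eQ]
  intro x y hxy
  exact eP.injective (hP (by rw [← hc, ← hc, hxy]))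

variable {X Y : Scheme.{u}} (f : X ⟶ Y) (F : X.Modules)
variable {ι : Type*} {Z : ι → Scheme.{u}} (g : ∀ i, Z i ⟶ Y) (y : ∀ i, Z i) (x : X)
  [IsNoetherianRing (Y.presheaf.stalk (f x))]
  [IsNoetherianRing (X.presheaf.stalk x)] [Module.Finite (X.presheaf.stalk x) (F.presheaf.stalk x)]

/-- EGA IV 11.5.5 relative to an ideal: the family induces the adic topology modulo `J`. -/
theorem flat_quot_of_adic_family (h : ∀ i, f x = g i (y i)) (J₀ : Ideal (Y.presheaf.stalk (f x)))
    (htop : ∀ N : ℕ, ∃ s : Finset (ι × ℕ), ⨅ p ∈ s,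
      Ideal.comap (baseMap f (g p.1) (h p.1)).hom (maximalIdeal ((Z p.1).presheaf.stalk (y p.1)) ^ p.2) ≤
        J₀ ⊔ maximalIdeal (Y.presheaf.stalk (f x)) ^ N)
    (hflat : ∀ (i : ι) (z : ↑(pullback f (g i))), pullback.fst f (g i) z = x → pullback.snd f (g i) z = y i →
      FlatMod.IsFlatOverAt (pullback.snd f (g i)) ((Scheme.Modules.pullback (pullback.fst f (g i))).obj F) z) :
    letI := FlatMod.moduleStalkOver f F x
    Module.Flat (Y.presheaf.stalk (f x) ⧸ J₀)
      ((Y.presheaf.stalk (f x) ⧸ J₀) ⊗[Y.presheaf.stalk (f x)] F.presheaf.stalk x) := by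
  letI := FlatMod.moduleStalkOver f F x
  letI := (f.stalkMap x).hom.toAlgebra
  haveI : IsScalarTower (Y.presheaf.stalk (f x)) (X.presheaf.stalk x) (F.presheaf.stalk x) :=
    IsScalarTower.of_compHom _ _ _
  letI : ∀ i, Algebra (Y.presheaf.stalk (f x)) ((Z i).presheaf.stalk (y i)) := fun i =>
    (baseMap f (g i) (h i)).hom.toAlgebra
  let W : ι → Type u := fun i =>
    {z : ↑(pullback f (g i)) // pullback.fst f (g i) z = x ∧ pullback.snd f (g i) z = y i}
  letI : ∀ i (z : W i), Algebra (X.presheaf.stalk x) ((pullback f (g i)).presheaf.stalk z.1) := fun i z =>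
    (ptX f (g i) z.1 z.2.1).hom.toAlgebra
  letI iC : ∀ i (z : W i), Module ((Z i).presheaf.stalk (y i))
      ((pullback f (g i)).presheaf.stalk z.1 ⊗[X.presheaf.stalk x] F.presheaf.stalk x) := fun i z =>
    Module.compHom _ (ptY f (g i) z.1 z.2.2).hom
  letI iA : ∀ i (z : W i), Module (Y.presheaf.stalk (f x))
      ((pullback f (g i)).presheaf.stalk z.1 ⊗[X.presheaf.stalk x] F.presheaf.stalk x) := fun i z =>
    Module.compHom _ (algebraMap (Y.presheaf.stalk (f x)) ((Z i).presheaf.stalk (y i)))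
  haveI : ∀ i (z : W i), IsScalarTower (Y.presheaf.stalk (f x)) ((Z i).presheaf.stalk (y i))
      ((pullback f (g i)).presheaf.stalk z.1 ⊗[X.presheaf.stalk x] F.presheaf.stalk x) := fun i z =>
    IsScalarTower.of_compHom _ _ _
  haveI : ∀ i (z : W i), Module.Flat ((Z i).presheaf.stalk (y i))
      ((pullback f (g i)).presheaf.stalk z.1 ⊗[X.presheaf.stalk x] F.presheaf.stalk x) := fun i z =>
    flat_pt f (g i) F z.1 z.2.1 z.2.2 (hflat i z.1 z.2.1 z.2.2)
  haveI : IsLocalHom (algebraMap (Y.presheaf.stalk (f x)) (X.presheaf.stalk x)) :=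
    inferInstanceAs (IsLocalHom (f.stalkMap x).hom)
  rcases eq_or_ne J₀ ⊤ with rfl | hJ₀
  · infer_instance
  refine flat_quot_of_quotFlat_pow (B := X.presheaf.stalk x) J₀ fun n => ?_
  obtain ⟨s, hs⟩ := htop (n + 1)
  let L : ∀ p : ↥s, Ideal ((Z p.1.1).presheaf.stalk (y p.1.1)) := fun p => maximalIdeal _ ^ (p.1.2 + 1)
  let J : Ideal (Y.presheaf.stalk (f x)) :=
    ⨅ p : ↥s, (L p).comap (baseMap f (g p.1.1) (h p.1.1)).hom
  have hJ : J ≤ J₀ ⊔ maximalIdeal (Y.presheaf.stalk (f x)) ^ (n + 1) := by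
    refine le_trans (le_iInf₂ fun p hp => ?_) hs
    exact (iInf_le _ (⟨p, hp⟩ : ↥s)).trans (Ideal.comap_mono (Ideal.pow_le_pow_right (Nat.le_succ _)))
  have hK : maximalIdeal (Y.presheaf.stalk (f x)) ^ (s.sup (fun p => p.2) + 1) ≤ J := le_iInf fun p => by
    rw [← Ideal.map_le_iff_le_comap, Ideal.map_pow]
    refine le_trans (Ideal.pow_le_pow_right (Nat.add_le_add_right (Finset.le_sup (f := fun p => p.2) p.2) 1))
      (Ideal.pow_right_mono ?_ _)
    haveI := isLocalHom_baseMap f (g p.1.1) (h p.1.1)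
    rw [Ideal.map_le_iff_le_comap]
    intro r hr
    exact map_nonunit _ r hr
  suffices hq : FlatCrit.QuotFlat (Y.presheaf.stalk (f x)) (F.presheaf.stalk x) J from
    fun P Q _ _ _ _ i hQ hi => hq i (fun r hr b => hQ r (sup_le_sup_left (Ideal.pow_le_pow_right (Nat.le_succ n)) J₀ (hJ hr)) b) hi
  refine quotFlat_of_family J (hJ.trans (sup_le (le_maximalIdeal hJ₀) (Ideal.pow_le_self (Nat.succ_ne_zero n)))) _ hK (F.presheaf.stalk x)
    (fun p : ↥s => (Z p.1.1).presheaf.stalk (y p.1.1)) L (fun p => Ideal.pow_le_self (Nat.succ_ne_zero _))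
    (fun a => Submodule.mem_iInf _)
    (fun p (z : W p.1.1) => (pullback f (g p.1.1)).presheaf.stalk z.1 ⊗[X.presheaf.stalk x] F.presheaf.stalk x)
    (fun p z => { toFun := fun m => (1 : (pullback f (g p.1.1)).presheaf.stalk z.1) ⊗ₜ[X.presheaf.stalk x] m
                  map_add' := fun a b => TensorProduct.tmul_add _ a b
                  map_smul' := fun r m => ?_ }) ?_
  · show (1 : (pullback f (g p.1.1)).presheaf.stalk z.1) ⊗ₜ[X.presheaf.stalk x] ((f.stalkMap x).hom r • m) =
      (ptY f (g p.1.1) z.1 z.2.2).hom ((baseMap f (g p.1.1) (h p.1.1)).hom r) •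
        ((1 : (pullback f (g p.1.1)).presheaf.stalk z.1) ⊗ₜ[X.presheaf.stalk x] m)
    rw [← TensorProduct.smul_tmul, TensorProduct.smul_tmul', smul_eq_mul, mul_one,
      Algebra.smul_def, mul_one]
    exact congrArg (· ⊗ₜ[X.presheaf.stalk x] m)
      (ConcreteCategory.congr_hom (baseMap_ptY f (g p.1.1) (h p.1.1) z.1 z.2.1 z.2.2) r).symm
  · intro p T _ a e hz
    let i := p.1.1
    refine sum_residue_eq_zero f (g i) F x (y i) (h i) a e fun z h1 h2 => ?_
    letI := (ptX f (g i) z h1).hom.toAlgebra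
    letI := iC i ⟨z, h1, h2⟩
    have hmem := hz ⟨z, h1, h2⟩
    have h3 := mem_map_smul_top (ptY f (g i) z h2).hom _ _ hmem
    convert h3 using 1
    refine Finset.sum_congr rfl fun j _ => ?_
    show _ = (ptY f (g i) z h2).hom (a j) • ((1 : (pullback f (g i)).presheaf.stalk z) ⊗ₜ[X.presheaf.stalk x] e j)
    rw [TensorProduct.smul_tmul', smul_eq_mul, mul_one]

end Groth.Agent.EGA43.FlatBC
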