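import Groth.Agent.EGA43.PtIntegral.Transfer
import Mathlib.AlgebraicGeometry.SpreadingOut
import Mathlib.RingTheory.Flat.EquationalCriterion

/-!
# Closed immersions which are isomorphisms at a point
-/

set_option autoImplicit false
set_option backward.isDefEq.respectTransparency false
set_option linter.style.haveILetI false

universe u

open CategoryTheory CategoryTheory.Limits AlgebraicGeometry IsLocalRing

namespace Groth.Agent.EGA43.DvrCrit

/-- A quotient flat over `A` with the same reduction modulo `m_A` is the whole ring. -/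
theorem ker_eq_bot_of_flat {A B C : Type u} [CommRing A] [IsLocalRing A] [CommRing B] [IsLocalRing B]
    [IsNoetherianRing B] [CommRing C] [Nontrivial C] (φ : A →+* B) (σ : B →+* C) (hσ : Function.Surjective σ)
    (hflat : (σ.comp φ).Flat) (hB : maximalIdeal B = (maximalIdeal A).map φ) : RingHom.ker σ = ⊥ := by
  letI : Algebra A B := φ.toAlgebra
  letI : Algebra A C := (σ.comp φ).toAlgebra
  haveI : Module.Flat A C := hflat
  have hle : RingHom.ker σ ≤ maximalIdeal B := le_maximalIdeal (RingHom.ker_ne_top σ)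
  refine Submodule.eq_bot_of_le_smul_of_le_jacobson_bot ((maximalIdeal A).map φ) (RingHom.ker σ)
    (IsNoetherian.noetherian _) ?_ (by rw [← hB]; exact (jacobson_eq_maximalIdeal ⊥ bot_ne_top).ge)
  intro x hx
  have hx' : x ∈ (maximalIdeal A).map φ := hB ▸ hle hx
  obtain ⟨c, hc⟩ := (Finsupp.mem_span_iff_linearCombination B (φ '' (maximalIdeal A : Set A)) x).1 hx'
  choose a ha hae using fun i : (φ '' (maximalIdeal A : Set A)) => i.2
  have hx0 : x = ∑ i ∈ c.support, φ (a i) * c i := by
    rw [← hc, Finsupp.linearCombination_apply, Finsupp.sum]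
    exact Finset.sum_congr rfl fun i _ => by rw [smul_eq_mul, mul_comm, hae]
  have hrel : ∑ i : c.support, a i • σ (c i) = 0 := by
    simp only [Algebra.smul_def]
    show ∑ i : c.support, σ (φ (a i)) * σ (c i) = 0
    simp_rw [← map_mul, ← map_sum]
    rw [Finset.sum_coe_sort c.support (fun i => φ (a i) * c i), ← hx0]
    exact hx
  obtain ⟨k, b, y, hy, hb⟩ := Module.Flat.isTrivialRelation_of_sum_smul_eq_zero hrel
  choose d hd using fun j => hσ (y j)
  let c' : c.support → B := fun i => c i - ∑ j, φ (b i j) * d j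
  have hc' : ∀ i, c' i ∈ RingHom.ker σ := fun i => by
    rw [RingHom.mem_ker]
    simp only [c', map_sub, map_sum, map_mul, hd]
    rw [show σ (c i) = ∑ j, b i j • y j from hy i, sub_eq_zero]
    exact Finset.sum_congr rfl fun j _ => Algebra.smul_def _ _
  have hx1 : x = ∑ i : c.support, φ (a i) * c' i := by
    simp only [c', mul_sub, Finset.sum_sub_distrib, Finset.mul_sum]
    rw [Finset.sum_coe_sort c.support (fun i => φ (a i) * c i), ← hx0, Finset.sum_comm,
      Finset.sum_eq_zero (fun j _ => ?_), sub_zero]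
    simp_rw [← mul_assoc, ← map_mul, ← Finset.sum_mul, ← map_sum, hb j, map_zero, zero_mul]
  rw [hx1]
  exact Submodule.sum_mem _ fun i _ => Submodule.smul_mem_smul (Ideal.mem_map_of_mem _ (ha _)) (hc' i)

variable {W W0 : Scheme.{u}}

/-- A closed immersion of finite presentation with bijective stalk map is an iso near the point. -/
theorem exists_openImmersion_factor (i : W ⟶ W0) [IsClosedImmersion i] [IsLocallyNoetherian W0] (w : W)
    (hb : Function.Bijective (i.stalkMap w)) :
    ∃ (U : W0.Opens) (l : U.toScheme ⟶ W) (_ : IsOpenImmersion l) (u : U.toScheme),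
      l u = w ∧ l ≫ i = U.ι := by
  haveI : IsIso (i.stalkMap w) := (ConcreteCategory.isIso_iff_bijective _).2 hb
  have h : (Spec.map (inv (i.stalkMap w)) ≫ W.fromSpecStalk w) ≫ i = W0.fromSpecStalk (i w) ≫ 𝟙 W0 := by
    rw [Category.assoc, ← Scheme.SpecMap_stalkMap_fromSpecStalk, ← Category.assoc, ← Spec.map_comp,
      IsIso.hom_inv_id, Spec.map_id, Category.id_comp, Category.comp_id]
  obtain ⟨U, hU, l, hl, hl'⟩ := spread_out_of_isGermInjective' (𝟙 W0) i
    (Spec.map (inv (i.stalkMap w)) ≫ W.fromSpecStalk w) h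
  rw [Category.comp_id] at hl'
  haveI : IsOpenImmersion l := by
    have hp : IsPullback l (𝟙 _) i U.ι := by
      refine IsPullback.of_isLimit' ⟨by rw [hl', Category.id_comp]⟩
        (PullbackCone.IsLimit.mk _ (fun s => s.snd) (fun s => ?_) (fun s => by simp) fun s m _ h2 => by simpa using h2)
      apply (cancel_mono i).1
      change (s.snd ≫ l) ≫ i = s.fst ≫ i
      rw [Category.assoc, hl', s.condition]
    exact MorphismProperty.of_isPullback hp.flip (inferInstanceAs (IsOpenImmersion U.ι))
  refine ⟨U, l, inferInstance, ⟨i w, hU⟩, i.isEmbedding.injective ?_, hl'⟩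
  rw [← Scheme.Hom.comp_apply, hl']
  rfl

variable {Pr : ∀ (R : Type u) [CommRing R], Prop}
  (hPr : ∀ (R R' : Type u) [CommRing R] [CommRing R'], R ≃+* R' → Pr R → Pr R')

include hPr in
theorem geomAt_of_closedImmersion {k : Type u} [Field k] (i : W ⟶ W0) [IsClosedImmersion i]
    [IsLocallyNoetherian W0] (p : W ⟶ Spec (CommRingCat.of k)) (p0 : W0 ⟶ Spec (CommRingCat.of k))
    (hp : i ≫ p0 = p) (w : W) (hb : Function.Bijective (i.stalkMap w))
    (h : PtIntegral.GeomAt Pr p0 (i w)) : PtIntegral.GeomAt Pr p w := by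
  subst hp
  intro K _ _ x' hx'
  obtain ⟨U, l, _, v, hlv, hl⟩ := exists_openImmersion_factor i w hb
  let κ := Spec.map (CommRingCat.ofHom (algebraMap k K))
  let j : pullback (i ≫ p0) κ ⟶ pullback p0 κ :=
    pullback.lift (pullback.fst _ _ ≫ i) (pullback.snd _ _) (by rw [Category.assoc, pullback.condition])
  have hj : IsPullback (pullback.fst (i ≫ p0) κ) j i (pullback.fst p0 κ) := by
    refine IsPullback.of_bot ?_ (by simp [j]) (IsPullback.of_hasPullback p0 κ)
    convert IsPullback.of_hasPullback (i ≫ p0) κ using 1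
    simp [j]
  let a := pullback.fst (pullback.fst (i ≫ p0) κ) l
  have hbig : IsPullback (pullback.snd (pullback.fst (i ≫ p0) κ) l) (a ≫ j) (l ≫ i) (pullback.fst p0 κ) :=
    (IsPullback.of_hasPullback (pullback.fst (i ≫ p0) κ) l).flip.paste_vert hj
  haveI : IsOpenImmersion a := inferInstance
  haveI : IsOpenImmersion (a ≫ j) := MorphismProperty.of_isPullback hbig (by rw [hl]; infer_instance)
  obtain ⟨t, ht, -⟩ := Scheme.Pullback.exists_preimage_pullback (f := pullback.fst (i ≫ p0) κ) (g := l)
    x' v (hx'.trans hlv.symm)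
  subst ht
  haveI : IsIso (j.stalkMap (a t)) := by
    haveI : IsIso ((a ≫ j).stalkMap t) := inferInstance
    rw [Scheme.Hom.stalkMap_comp] at this
    exact IsIso.of_isIso_comp_right _ (a.stalkMap t)
  refine hPr _ _ (asIso (j.stalkMap (a t))).commRingCatIsoToRingEquiv (h K (j (a t)) ?_)
  show pullback.fst p0 κ (j (a t)) = i w
  rw [← Scheme.Hom.comp_apply, pullback.lift_fst, Scheme.Hom.comp_apply]
  exact congrArg i hx'

end Groth.Agent.EGA43.DvrCrit
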