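import Groth.Agent.EGA43.DvrCrit.OpenNhd
import Groth.Agent.EGA43.PtIntegral.Transfer
import Groth.Agent.EGA43.OpenAt
import Groth.Agent.Props12.KerReduced
import Groth.Agent.Desc19.Topology

/-!
# EGA IV 15.2.4: universally open near a point with geometrically reduced fibre
-/

set_option autoImplicit false
set_option backward.isDefEq.respectTransparency false
set_option linter.style.haveILetI false

universe u

open CategoryTheory CategoryTheory.Limits AlgebraicGeometry IsLocalRing TopologicalSpace

namespace Groth.Agent.EGA43.DvrCrit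

variable {X Y : Scheme.{u}} (f : X ⟶ Y)

theorem resExt_bijective {S : Scheme.{u}} (g : S ⟶ Y) [IsClosedImmersion g] (s : S) {y : Y} (h : g s = y) :
    Function.Bijective (resExt g s h).hom := by
  subst h
  refine ⟨RingHom.injective _, ?_⟩
  simp only [resExt, Scheme.residueFieldCongr_refl, Iso.refl_hom, Category.id_comp]
  intro a
  obtain ⟨b, rfl⟩ := residue_surjective a
  obtain ⟨c, rfl⟩ := g.stalkMap_surjective s b
  exact ⟨residue _ c, rfl⟩

/-- EGA IV 15.2.4. -/
theorem exists_open_universallyOpen [IsLocallyNoetherian Y] [LocallyOfFiniteType f] (x : X)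
    (hopen : ∀ z : ↥(f.fiber (f x)), f.asFiber x ∈ closure {z} →
      (∀ z' : ↥(f.fiber (f x)), z ∈ closure {z'} → z' = z) → EGA43.IsUnivOpenAt f (f.fiberι (f x) z))
    (hred : FBase.IsGeomReducedAt (f.fiberToSpecResidueField (f x)) (f.asFiber x)) :
    ∃ U : X.Opens, x ∈ U ∧ UniversallyOpen (U.ι ≫ f) ∧
      ∀ x' : X, x' ∈ U → FBase.IsGeomReducedAt (f.fiberToSpecResidueField (f x')) (f.asFiber x') := by
  let g := (Scheme.IdealSheafData.vanishingIdeal (⊤ : Closeds Y)).subschemeι
  haveI := Props12.isReduced_subscheme_vanishingIdeal (Y := Y) ⊤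
  haveI : Surjective g := ⟨Set.range_eq_univ.1 (by
    rw [Scheme.IdealSheafData.range_subschemeι, Scheme.IdealSheafData.coe_support_vanishingIdeal]
    rfl)⟩
  haveI : IsLocallyNoetherian (Scheme.IdealSheafData.vanishingIdeal (⊤ : Closeds Y)).subscheme :=
    LocallyOfFiniteType.isLocallyNoetherian g
  haveI : UniversallyOpen g := Desc19.universallyOpen_of_closedImm_surjective g
  haveI : Surjective (pullback.fst f g) :=
    ⟨Set.range_eq_univ.1 (by rw [Scheme.Pullback.range_fst, g.surjective.range_eq, Set.preimage_univ])⟩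
  obtain ⟨w, hw⟩ := (pullback.fst f g).surjective x
  have hflat := flat_stalkMap_of_univOpen_of_geomReduced (pullback.snd f g) w inferInstance
    (fun z' hz' hmax => by
      obtain ⟨z, hz, hzmax, hzz⟩ := exists_generic_image f g w hw z' (specializes_iff_mem_closure.2 hz')
        fun t ht => hmax t (specializes_iff_mem_closure.1 ht)
      exact isUnivOpenAt_of_isPullback (hopen z (specializes_iff_mem_closure.1 hz)
        fun t ht => hzmax t (specializes_iff_mem_closure.2 ht)) (IsPullback.of_hasPullback f g) hzz)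
    (PtIntegral.geomAt_baseChange f g (Pr := fun R _ => _root_.IsReduced R)
      (fun R R' _ _ e h => isReduced_of_injective e.symm.toRingHom e.symm.injective) w hw hred)
  let U' : (pullback f g).Opens := ⟨_, isOpen_goodLocus (pullback.snd f g)⟩
  have hwU : w ∈ U' := ⟨⟨hflat, PtIntegral.geomAt_baseChange f g (Pr := fun R _ => _root_.IsReduced R)
      (fun R R' _ _ e h => isReduced_of_injective e.symm.toRingHom e.symm.injective) w hw hred⟩, inferInstance⟩
  let U : X.Opens := ⟨pullback.fst f g '' (U' : Set ↑(pullback f g)), (pullback.fst f g).isOpenMap _ U'.isOpen⟩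
  refine ⟨U, ⟨w, hwU, hw⟩, ?_, ?_⟩
  · haveI : Flat (U'.ι ≫ pullback.snd f g) := Flat.of_stalkMap _ fun u => by
      rw [Scheme.Hom.stalkMap_comp, CommRingCat.hom_comp]
      exact RingHom.Flat.comp u.2.1.1 (RingHom.Flat.of_bijective (ConcreteCategory.bijective_of_isIso _))
    haveI : LocallyOfFinitePresentation (U'.ι ≫ pullback.snd f g) := inferInstance
    let π : U'.toScheme ⟶ U.toScheme := IsOpenImmersion.lift U.ι (U'.ι ≫ pullback.fst f g) (by
      rintro _ ⟨t, rfl⟩
      rw [Scheme.Opens.range_ι]
      exact ⟨t.1, t.2, rfl⟩)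
    have hπ : π ≫ U.ι = U'.ι ≫ pullback.fst f g := IsOpenImmersion.lift_fac _ _ _
    haveI : Surjective π := ⟨fun u => by
      obtain ⟨t, ht, htu⟩ := u.2
      refine ⟨⟨t, ht⟩, U.ι.isOpenEmbedding.injective ?_⟩
      rw [← Scheme.Hom.comp_apply, hπ]
      exact htu⟩
    have hsnd : UniversallyOpen (U'.ι ≫ pullback.snd f g) := inferInstance
    haveI : UniversallyOpen (π ≫ U.ι ≫ f) := by
      rw [← Category.assoc, hπ, Category.assoc, pullback.condition, ← Category.assoc]
      exact MorphismProperty.comp_mem _ _ _ hsnd inferInstance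
    exact Desc19.universallyOpen_of_comp_surjective π (U.ι ≫ f)
  · rintro x' ⟨t, ht, rfl⟩
    have h : g (pullback.snd f g t) = f (pullback.fst f g t) :=
      (congrArg (fun φ : pullback f g ⟶ Y => φ t) pullback.condition).symm
    exact PtIntegral.geomAt_of_baseChange f g (Pr := fun R _ => _root_.IsReduced R)
      (fun R R' _ _ e h => isReduced_of_injective e.symm.toRingHom e.symm.injective) t rfl h
      (resExt_bijective g _ h) ht.1.2

end Groth.Agent.EGA43.DvrCrit
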