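import Groth.Agent.EGA43.DvrCrit.ClosedImmAt
import Groth.Agent.EGA43.DvrCrit.UnivOpenNhd
import Groth.Agent.EGA43.DimFormula.Points
import Groth.Agent.EGA43.CMChart.Main

/-!
# A universally open closed subscheme through a maximal fibre point with geometrically reduced fibre
-/

set_option autoImplicit false
set_option backward.isDefEq.respectTransparency false
set_option linter.style.haveILetI false

universe u

open CategoryTheory CategoryTheory.Limits AlgebraicGeometry IsLocalRing TopologicalSpace

namespace Groth.Agent.EGA43.DvrCrit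

open Groth.Agent.EGA43.DimFormula

variable {W X Y : Scheme.{u}}

theorem geomRed_congr : ∀ (R R' : Type u) [CommRing R] [CommRing R'], R ≃+* R' →
    _root_.IsReduced R → _root_.IsReduced R' :=
  fun _ _ _ _ e _ => isReduced_of_injective e.symm.toRingHom e.symm.injective

theorem fibre_stalk_field (q : X ⟶ Y) (z : X)
    (hmax : ∀ t, t ⤳ z → q t = q z → t = z)
    (hred : FBase.IsGeomReducedAt (q.fiberToSpecResidueField (q z)) (q.asFiber z)) :
    maximalIdeal (X.presheaf.stalk z) = (maximalIdeal (Y.presheaf.stalk (q z))).map (q.stalkMap z).hom := by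
  refine le_antisymm ?_ (Ideal.map_le_iff_le_comap.2 fun b hb => map_nonunit (q.stalkMap z).hom b hb)
  obtain ⟨e⟩ := CMChart.exists_fibre_stalk_equiv q z
  haveI := isReduced_fiber_stalk q z hred
  haveI := isReduced_of_injective e.toRingHom e.injective
  refine le_trans ?_ (Ideal.isRadical_iff_quotient_reduced _ |>.2 inferInstance)
  rw [Ideal.radical_eq_sInf]
  refine le_sInf fun P ⟨hP, hPp⟩ => ?_
  have h1 : toPt z ⟨P, hPp⟩ = z :=
    hmax _ (toPt_specializes z _) ((mem_fibre_iff_le q z ⟨P, hPp⟩).1 hP)
  have h2 := toPt_injective z (h1.trans (Scheme.fromSpecStalk_closedPoint (x := z)).symm)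
  exact (congrArg PrimeSpectrum.asIdeal h2).ge

theorem geomAt_fiber_of_closedImmersion (i : W ⟶ X) [IsClosedImmersion i] (q : X ⟶ Y)
    [LocallyOfFiniteType q] (y : Y) (z : (i ≫ q).fiber y) (z' : q.fiber y)
    (hzz : q.fiberι y z' = i ((i ≫ q).fiberι y z)) (hfield : maximalIdeal ((q.fiber y).presheaf.stalk z') = ⊥)
    (h : FBase.IsGeomReducedAt (q.fiberToSpecResidueField y) z') :
    FBase.IsGeomReducedAt ((i ≫ q).fiberToSpecResidueField y) z := by
  let j : (i ≫ q).fiber y ⟶ q.fiber y :=
    pullback.lift (pullback.fst _ _ ≫ i) (pullback.snd _ _) (by rw [Category.assoc, pullback.condition])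
  have hj : IsPullback (pullback.fst (i ≫ q) (Y.fromSpecResidueField y)) j i
      (pullback.fst q (Y.fromSpecResidueField y)) := by
    refine IsPullback.of_bot ?_ (by simp [j]) (IsPullback.of_hasPullback q (Y.fromSpecResidueField y))
    convert IsPullback.of_hasPullback (i ≫ q) (Y.fromSpecResidueField y) using 1
    simp [j]
  haveI : IsClosedImmersion j := MorphismProperty.of_isPullback hj inferInstance
  have hjz : j z = z' := by
    apply (q.fiberι y).isEmbedding.injective
    rw [hzz]
    exact congrArg (fun φ : (i ≫ q).fiber y ⟶ X => φ z) (pullback.lift_fst _ _ _)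
  subst hjz
  haveI : LocallyOfFiniteType (q.fiberToSpecResidueField y) :=
    inferInstanceAs (LocallyOfFiniteType (pullback.snd q (Y.fromSpecResidueField y)))
  haveI : IsLocallyNoetherian (q.fiber y) := LocallyOfFiniteType.isLocallyNoetherian (q.fiberToSpecResidueField y)
  have hb : Function.Bijective (j.stalkMap z) := by
    refine ⟨?_, j.stalkMap_surjective z⟩
    rw [RingHom.injective_iff_ker_eq_bot]
    exact le_bot_iff.1 (hfield ▸ le_maximalIdeal (RingHom.ker_ne_top _))
  exact geomAt_of_closedImmersion (Pr := fun R _ => _root_.IsReduced R) geomRed_congr j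
    ((i ≫ q).fiberToSpecResidueField y) (q.fiberToSpecResidueField y) (pullback.lift_snd _ _ _) z hb h

theorem component_through_of_reduced [IsReduced Y] [IsLocallyNoetherian Y] (i : W ⟶ X) [IsClosedImmersion i]
    (q : X ⟶ Y) [LocallyOfFiniteType q] (w : W) (hmax : ∀ t, t ⤳ i w → q t = q (i w) → t = i w)
    (hred : FBase.IsGeomReducedAt (q.fiberToSpecResidueField (q (i w))) (q.asFiber (i w)))
    (hopen : EGA43.IsUnivOpenAt (i ≫ q) w) {t : X} (ht : t ⤳ i w) :
    t ∈ Set.range i ∧ FBase.IsGeomReducedAt (q.fiberToSpecResidueField (q t)) (q.asFiber t) := by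
  haveI : IsLocallyNoetherian X := LocallyOfFiniteType.isLocallyNoetherian q
  have hB := fibre_stalk_field q (i w) hmax hred
  have hfield : maximalIdeal ((q.fiber (q (i w))).presheaf.stalk (q.asFiber (i w))) = ⊥ := by
    obtain ⟨e⟩ := CMChart.exists_fibre_stalk_equiv q (i w)
    rw [eq_bot_iff]
    intro a ha
    obtain ⟨b, rfl⟩ := e.surjective a
    obtain ⟨c, rfl⟩ := Ideal.Quotient.mk_surjective b
    have hc : c ∈ maximalIdeal (X.presheaf.stalk (i w)) := fun hu =>
      ha ((hu.map (Ideal.Quotient.mk _)).map e)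
    rw [hB] at hc
    rw [Ideal.Quotient.eq_zero_iff_mem.2 hc, map_zero]
    exact Submodule.zero_mem _
  have hflat : ((i ≫ q).stalkMap w).hom.Flat := by
    refine flat_stalkMap_of_univOpen_of_geomReduced (i ≫ q) w inferInstance (fun z hz _ => ?_) ?_
    · have hs : (i ≫ q).fiberι ((i ≫ q) w) z ⤳ w := by
        have h2 := (specializes_iff_mem_closure.2 hz).map ((i ≫ q).fiberι ((i ≫ q) w)).continuous
        rwa [(i ≫ q).fiberι_asFiber w] at h2
      have he : i ((i ≫ q).fiberι ((i ≫ q) w) z) = i w :=
        hmax _ (hs.map i.continuous) (((i ≫ q).range_fiberι _).le ⟨z, rfl⟩)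
      rwa [i.isEmbedding.injective he]
    · refine geomAt_fiber_of_closedImmersion i q _ _ (q.asFiber (i w)) ?_ hfield hred
      exact (q.fiberι_asFiber (i w)).trans (congrArg i ((i ≫ q).fiberι_asFiber w).symm)
  haveI := isNoetherianRing_stalk q (i w)
  have hker : RingHom.ker (i.stalkMap w).hom = ⊥ := by
    refine ker_eq_bot_of_flat (q.stalkMap (i w)).hom (i.stalkMap w).hom (i.stalkMap_surjective w) ?_ hB
    rw [← CommRingCat.hom_comp, ← Scheme.Hom.stalkMap_comp]
    exact hflat
  have hb : Function.Bijective (i.stalkMap w).hom :=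
    ⟨RingHom.injective_iff_ker_eq_bot _ |>.2 hker, i.stalkMap_surjective w⟩
  refine ⟨?_, ?_⟩
  · haveI : IsIso (i.stalkMap w) := (ConcreteCategory.isIso_iff_bijective _).2 hb
    obtain ⟨P, rfl⟩ := exists_toPt ht
    obtain ⟨Q, rfl⟩ := (Spec.map (i.stalkMap w)).surjective P
    exact ⟨W.fromSpecStalk w Q, (congrArg (fun φ : Spec (W.presheaf.stalk w) ⟶ X => φ Q)
      (Scheme.SpecMap_stalkMap_fromSpecStalk i (x := w))).symm⟩
  · let r := RingEquiv.ofBijective (i.stalkMap w).hom hb
    have hq : (q.stalkMap (i w)).hom.Flat := by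
      have h2 : (q.stalkMap (i w)).hom = r.symm.toRingHom.comp ((i ≫ q).stalkMap w).hom := by
        rw [Scheme.Hom.stalkMap_comp, CommRingCat.hom_comp]
        ext a
        exact (r.symm_apply_apply _).symm
      rw [h2]
      exact hflat.comp (RingHom.Flat.of_bijective r.symm.bijective)
    exact (ht.mem_open (isOpen_goodLocus q) ⟨⟨hq, hred⟩, inferInstance⟩).1.2

/-- All generalizations of such a point lie in the closed subscheme and have geometrically reduced fibres. -/
theorem component_through [IsLocallyNoetherian Y] (i : W ⟶ X) [IsClosedImmersion i] (f : X ⟶ Y)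
    [LocallyOfFiniteType f] (w : W) (hmax : ∀ t, t ⤳ i w → f t = f (i w) → t = i w)
    (hred : FBase.IsGeomReducedAt (f.fiberToSpecResidueField (f (i w))) (f.asFiber (i w)))
    (hopen : EGA43.IsUnivOpenAt (i ≫ f) w) {t : X} (ht : t ⤳ i w) :
    t ∈ Set.range i ∧ FBase.IsGeomReducedAt (f.fiberToSpecResidueField (f t)) (f.asFiber t) := by
  let g := (Scheme.IdealSheafData.vanishingIdeal (⊤ : Closeds Y)).subschemeι
  haveI := Props12.isReduced_subscheme_vanishingIdeal (Y := Y) ⊤
  haveI : Surjective g := ⟨Set.range_eq_univ.1 (by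
    rw [Scheme.IdealSheafData.range_subschemeι, Scheme.IdealSheafData.coe_support_vanishingIdeal]
    rfl)⟩
  haveI : IsLocallyNoetherian (Scheme.IdealSheafData.vanishingIdeal (⊤ : Closeds Y)).subscheme :=
    LocallyOfFiniteType.isLocallyNoetherian g
  haveI : Surjective (pullback.fst f g) :=
    ⟨Set.range_eq_univ.1 (by rw [Scheme.Pullback.range_fst, g.surjective.range_eq, Set.preimage_univ])⟩
  let i1 : pullback (i ≫ f) g ⟶ pullback f g :=
    pullback.lift (pullback.fst _ _ ≫ i) (pullback.snd _ _) (by rw [Category.assoc, pullback.condition])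
  have hi1 : IsPullback (pullback.fst (i ≫ f) g) i1 i (pullback.fst f g) := by
    refine IsPullback.of_bot ?_ (by simp [i1]) (IsPullback.of_hasPullback f g)
    convert IsPullback.of_hasPullback (i ≫ f) g using 1
    simp [i1]
  haveI : IsClosedImmersion i1 := MorphismProperty.of_isPullback hi1 inferInstance
  obtain ⟨t1, rfl⟩ := (pullback.fst f g).surjective t
  obtain ⟨w1, hw1, -⟩ := Scheme.Pullback.exists_preimage_pullback (f := i ≫ f) (g := g) w
    ((g.surjective (f (i w))).choose) ((g.surjective (f (i w))).choose_spec.symm)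
  have hi : pullback.fst f g (i1 w1) = i w :=
    (congrArg (fun φ : pullback (i ≫ f) g ⟶ X => φ w1) (pullback.lift_fst _ _ _)).trans (congrArg i hw1)
  have hemb := (pullback.fst f g).isEmbedding
  have hsnd : i1 ≫ pullback.snd f g = pullback.snd (i ≫ f) g := pullback.lift_snd _ _ _
  obtain ⟨⟨v, hv⟩, hgr⟩ := component_through_of_reduced i1 (pullback.snd f g) w1
    (fun s hs hse => hemb.injective (hi ▸ hmax _ (hi ▸ hs.map (pullback.fst f g).continuous) (by
      rw [← hi]
      calc f (pullback.fst f g s) = g (pullback.snd f g s) :=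
            congrArg (fun φ : pullback f g ⟶ Y => φ s) pullback.condition
        _ = g (pullback.snd f g (i1 w1)) := congrArg g hse
        _ = f (pullback.fst f g (i1 w1)) :=
            (congrArg (fun φ : pullback f g ⟶ Y => φ (i1 w1)) pullback.condition).symm)))
    (PtIntegral.geomAt_baseChange f g (Pr := fun R _ => _root_.IsReduced R) geomRed_congr (i1 w1) hi hred)
    (hsnd ▸ isUnivOpenAt_of_isPullback hopen (IsPullback.of_hasPullback (i ≫ f) g) hw1)
    (t := t1) (hemb.toIsInducing.specializes_iff.1 (hi ▸ ht))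
  refine ⟨⟨pullback.fst (i ≫ f) g v, ?_⟩, ?_⟩
  · rw [← hv]
    have e : i1 ≫ pullback.fst f g = pullback.fst (i ≫ f) g ≫ i := pullback.lift_fst _ _ _
    exact (congrArg (fun φ : pullback (i ≫ f) g ⟶ X => φ v) e).symm
  · have h : g (pullback.snd f g t1) = f (pullback.fst f g t1) :=
      (congrArg (fun φ : pullback f g ⟶ Y => φ t1) pullback.condition).symm
    exact PtIntegral.geomAt_of_baseChange f g (Pr := fun R _ => _root_.IsReduced R) geomRed_congr t1 rfl h
      (resExt_bijective g _ h) hgr

end Groth.Agent.EGA43.DvrCrit
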