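import Groth.Agent.EGA43.DvrCrit.UnivOpenNhd
import Groth.Agent.EGA43.DimFormula.Equidim
import Groth.Agent.EGA43.DimFormula.UnivDim
import Groth.Agent.EGA43.Chevalley.Open
import Groth.Agent.CommAlg6.CatenaryLift
import Groth.Agent.DVRDom.Points

/-!
# EGA IV 15.2.4: equidimensionality at a point with geometrically reduced equidimensional fibre
-/

set_option autoImplicit false
set_option backward.isDefEq.respectTransparency false
set_option linter.style.haveILetI false

universe u

open CategoryTheory CategoryTheory.Limits AlgebraicGeometry IsLocalRing TopologicalSpace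

namespace Groth.Agent.EGA43.DvrCrit

open Groth.Agent Groth.Agent.EGA43.DimFormula FlatMorWeight

variable {X Y : Scheme.{u}} (f : X ⟶ Y)

/-- A fibre ring is equidimensional when the maximal points of the fibre through the point have equal `trd`. -/
theorem isEquidim_quotient_of_trdAt [IsLocallyNoetherian Y] [LocallyOfFiniteType f] (x : X) (e : ℕ)
    (he : ∀ z, z ⤳ x → f z = f x → (∀ w, w ⤳ z → f w = f x → w = z) → trdAt f z = e) :
    EGA4.IsEquidim (X.presheaf.stalk x ⧸ (maximalIdeal (Y.presheaf.stalk (f x))).map (f.stalkMap x).hom) := by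
  let I := (maximalIdeal (Y.presheaf.stalk (f x))).map (f.stalkMap x).hom
  haveI := isNoetherianRing_stalk f x
  have hI : I ≤ maximalIdeal _ :=
    (mem_fibre_iff_le f x (closedPoint _)).2 (congrArg f (toPt_closedPoint x))
  haveI := isLocalRing_quotient I (ne_top_of_le_ne_top (maximalIdeal.isMaximal _).ne_top hI)
  have key : ∀ P : Ideal (X.presheaf.stalk x ⧸ I), P ∈ minimalPrimes (X.presheaf.stalk x ⧸ I) →
      ∀ n : ℕ, ringKrullDim ((X.presheaf.stalk x ⧸ I) ⧸ P) = n → n + trdAt f x = e := by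
    intro P hP n hn
    haveI := hP.1.1
    let Q : PrimeSpectrum (X.presheaf.stalk x) := ⟨P.comap (Ideal.Quotient.mk I), inferInstance⟩
    have hIQ : I ≤ Q.asIdeal := Ideal.mk_ker.ge.trans (Ideal.ker_le_comap _)
    have hQx : f (toPt x Q) = f x := (mem_fibre_iff_le f x Q).1 hIQ
    have h1 := point_formula_fibre f x Q hQx
    have h2 : ringKrullDim (X.presheaf.stalk x ⧸ Q.asIdeal) = n := by
      rw [← hn, ← ringKrullDim_eq_of_ringEquiv (DoubleQuot.quotQuotEquivQuotOfLE hIQ)]
      exact ringKrullDim_eq_of_ringEquiv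
        (Ideal.quotEquivOfEq (Ideal.map_comap_of_surjective _ Ideal.Quotient.mk_surjective P))
    have h3 := he _ (toPt_specializes x Q) hQx fun w hw hwe => by
      obtain ⟨W, rfl⟩ := exists_toPt (hw.trans (toPt_specializes x Q))
      have hle := (toPt_specializes_iff x W Q).1 hw
      have hIW := (mem_fibre_iff_le f x W).2 hwe
      haveI : (W.asIdeal.map (Ideal.Quotient.mk I)).IsPrime :=
        Ideal.map_isPrime_of_surjective Ideal.Quotient.mk_surjective (by rwa [Ideal.mk_ker])
      have hWP : W.asIdeal.map (Ideal.Quotient.mk I) ≤ P := Ideal.map_le_iff_le_comap.2 hle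
      refine congrArg (toPt x) (le_antisymm hle ?_)
      refine (Ideal.comap_mono (hP.2 ⟨inferInstance, bot_le⟩ hWP)).trans ?_
      rw [Ideal.comap_map_of_surjective' _ Ideal.Quotient.mk_surjective, Ideal.mk_ker, sup_eq_left.2 hIW]
    rw [h2] at h1
    have h1' : n + trdAt f x = trdAt f (toPt x Q) := by exact_mod_cast h1
    exact h1'.trans h3
  obtain ⟨P₀, hP₀, hdim⟩ := exists_minimalPrime_dim (X.presheaf.stalk x ⧸ I)
  intro P hP
  haveI := hP.1.1
  haveI := isLocalRing_quotient P hP.isPrime.ne_top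
  haveI := hP₀.1.1
  haveI := isLocalRing_quotient P₀ hP₀.isPrime.ne_top
  rw [← hdim, ringKrullDim_eq_natDim, ringKrullDim_eq_natDim]
  have h1 := key P hP _ (ringKrullDim_eq_natDim _)
  have h2 := key P₀ hP₀ _ (ringKrullDim_eq_natDim _)
  exact_mod_cast (by omega : natDim ((X.presheaf.stalk x ⧸ I) ⧸ P) = natDim ((X.presheaf.stalk x ⧸ I) ⧸ P₀))

/-- Over a discrete valuation ring the generic and special fibre dimensions agree. -/
theorem isEquidimAt_of_dvr {V : Type u} [CommRing V] [IsDomain V] [IsDiscreteValuationRing V]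
    {W : Scheme.{u}} (p : W ⟶ Spec (CommRingCat.of V)) [LocallyOfFiniteType p] (w : W)
    (hw : p w = closedPoint V) (hflat : (p.stalkMap w).hom.Flat)
    (hred : _root_.IsReduced ((p.fiber (p w)).presheaf.stalk (p.asFiber w))) (e : ℕ)
    (he : ∀ z, z ⤳ w → p z = p w → (∀ t, t ⤳ z → p t = p w → t = z) → trdAt p z = e)
    (hopen : ∀ z, z ⤳ w → p z = p w → (∀ t, t ⤳ z → p t = p w → t = z) → EGA43.IsOpenAt p.base z) :
    EGA43.IsEquidimAt p w := by
  haveI : IsLocallyNoetherian W := LocallyOfFiniteType.isLocallyNoetherian p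
  obtain ⟨π, hπ⟩ := IsDiscreteValuationRing.exists_irreducible V
  let ε : V ≃+* (Spec (CommRingCat.of V)).presheaf.stalk (p w) :=
    RingEquiv.ofBijective _ (FlatBC.toStalk_bijective V (p w) (congrArg PrimeSpectrum.asIdeal hw))
  haveI : IsDomain ((Spec (CommRingCat.of V)).presheaf.stalk (p w)) := MulEquiv.isDomain _ ε.symm.toMulEquiv
  let t := (p.stalkMap w).hom (ε π)
  have hspan : (maximalIdeal ((Spec (CommRingCat.of V)).presheaf.stalk (p w))).map (p.stalkMap w).hom =
      Ideal.span {t} := by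
    rw [← IsLocalRing.map_maximalIdeal_of_surjective ε.toRingHom ε.surjective, hπ.maximalIdeal_eq, Ideal.map_span,
      Ideal.map_span, Set.image_singleton, Set.image_singleton]
    rfl
  have hεm : ε π ∈ maximalIdeal ((Spec (CommRingCat.of V)).presheaf.stalk (p w)) := by
    rw [← IsLocalRing.map_maximalIdeal_of_surjective ε.toRingHom ε.surjective]
    exact Ideal.mem_map_of_mem _ (hπ.maximalIdeal_eq ▸ Ideal.mem_span_singleton_self π)
  have ht : t ∈ maximalIdeal (W.presheaf.stalk w) := map_nonunit (p.stalkMap w).hom _ hεm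
  have hreg : t ∈ nonZeroDivisors (W.presheaf.stalk w) := by
    letI := (p.stalkMap w).hom.toAlgebra
    haveI : Module.Flat ((Spec (CommRingCat.of V)).presheaf.stalk (p w)) (W.presheaf.stalk w) := hflat
    have hne : ε π ≠ 0 := (map_ne_zero_iff ε ε.injective).2 hπ.ne_zero
    refine mem_nonZeroDivisors_iff_right.2 fun a ha => ?_
    have h1 := Module.Flat.lTensor_preserves_injective_linearMap (M := W.presheaf.stalk w)
      (LinearMap.lsmul _ ((Spec (CommRingCat.of V)).presheaf.stalk (p w)) (ε π))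
      (fun u v huv => mul_left_cancel₀ hne huv)
    apply (TensorProduct.rid ((Spec (CommRingCat.of V)).presheaf.stalk (p w))
      (W.presheaf.stalk w)).symm.injective
    apply h1
    simp only [TensorProduct.rid_symm_apply, LinearMap.lTensor_tmul, LinearMap.lsmul_apply]
    rw [TensorProduct.tmul_smul, TensorProduct.tmul_smul, TensorProduct.smul_tmul', TensorProduct.smul_tmul',
      show ε π • a = ε π • (0 : W.presheaf.stalk w) by rw [smul_zero, Algebra.smul_def, mul_comm]; exact ha]
  obtain ⟨eq⟩ := CMChart.exists_fibre_stalk_equiv p w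
  haveI : _root_.IsReduced (W.presheaf.stalk w ⧸ Ideal.span {t}) := by
    rw [← hspan]
    exact isReduced_of_injective eq.toRingHom eq.injective
  exact isEquidimAt_of_isOpenAt p
    (CommAlg6.isEquidim_of_quotient_regular ht hreg (hspan ▸ isEquidim_quotient_of_trdAt p w e he))
    (FibDepth.isEquidim_of_isDomain _) hopen

/-- The generic fibre dimension along every component through the point. -/
theorem trdAt_maximal_eq [IsLocallyNoetherian Y] [LocallyOfFiniteType f] (x : X) (e : ℕ)
    (hopen : ∀ z, z ⤳ x → f z = f x → (∀ w, w ⤳ z → f w = f x → w = z) → EGA43.IsUnivOpenAt f z)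
    (hred : FBase.IsGeomReducedAt (f.fiberToSpecResidueField (f x)) (f.asFiber x))
    (he : ∀ z, z ⤳ x → f z = f x → (∀ w, w ⤳ z → f w = f x → w = z) → trdAt f z = e)
    {ξ : X} (hξ : IsMaximalPt ξ) (hξx : ξ ⤳ x) : trdAt f ξ = e := by
  by_cases hfξ : f ξ = f x
  · exact he ξ hξx hfξ fun w hw _ => hξ w hw
  haveI : IsLocallyNoetherian X := LocallyOfFiniteType.isLocallyNoetherian f
  obtain ⟨V, _, _, _, m, hm1, hm2⟩ := DVRDom.exists_dvr_point hξx fun e => hfξ (congrArg f e)
  let g := m ≫ f
  let s : Spec (CommRingCat.of V) ⟶ pullback f g := pullback.lift m (𝟙 _) (by simp [g])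
  let w := s (closedPoint V)
  have hw : pullback.fst f g w = x := by
    rw [← Scheme.Hom.comp_apply, pullback.lift_fst, hm1]
  have hw' : pullback.snd f g w = closedPoint V := by
    rw [← Scheme.Hom.comp_apply, pullback.lift_snd]
    rfl
  haveI : IsLocallyNoetherian (pullback f g) := LocallyOfFiniteType.isLocallyNoetherian (pullback.snd f g)
  have hflat := (flat_and_isReduced_baseChange f x
    ((forall_fibre_gen_iff f x (fun z => EGA43.IsUnivOpenAt f z)).2 hopen) hred g w hw hw').1
  have hkey : ∀ z, z ⤳ w → pullback.snd f g z = pullback.snd f g w →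
      (∀ t, t ⤳ z → pullback.snd f g t = pullback.snd f g w → t = z) →
      trdAt (pullback.snd f g) z = e ∧ EGA43.IsOpenAt (pullback.snd f g).base z := by
    intro z hz hze hzmax
    obtain ⟨h1, h2⟩ := trdAt_pullback_of_maximal f g z fun t ht hte => hzmax t ht (hte.trans hze)
    have hzx : pullback.fst f g z ⤳ x := hw ▸ hz.map (pullback.fst f g).continuous
    have hzy : f (pullback.fst f g z) = f x := by
      rw [← hw]
      exact (congrArg (fun φ : pullback f g ⟶ Y => φ z) pullback.condition).trans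
        ((congrArg g hze).trans (congrArg (fun φ : pullback f g ⟶ Y => φ w) pullback.condition).symm)
    have hmax : ∀ t, t ⤳ pullback.fst f g z → f t = f x → t = pullback.fst f g z :=
      fun t ht hte => h2 t ht (hte.trans hzy.symm)
    exact ⟨h1.trans (he _ hzx hzy hmax), hopen _ hzx hzy hmax _ g z rfl⟩
  obtain ⟨e', U, hwU, -, hU⟩ := (Chevalley.isEquidimAt_iff (pullback.snd f g) w).1
    (isEquidimAt_of_dvr (pullback.snd f g) w hw' hflat (isReduced_fiber_baseChange f g w hw hred) e
      (fun z h1 h2 h3 => (hkey z h1 h2 h3).1) (fun z h1 h2 h3 => (hkey z h1 h2 h3).2))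
  obtain ⟨z', hz'w, hz'e, hz'max⟩ := Chevalley.exists_maximal_in_fibre (pullback.snd f g) w
  have hee : e' = e := by
    rw [← (hkey z' hz'w hz'e hz'max).1]
    exact (hU z' (hz'w.mem_open U.isOpen hwU) fun t ht hte => hz'max t ht (hte.trans hz'e)).symm
  let z₀ : ↥(Spec (CommRingCat.of (FractionRing V))) := closedPoint (FractionRing V)
  let q := Spec.map (CommRingCat.ofHom (algebraMap V (FractionRing V))) z₀
  have hq : pullback.fst f g (s q) = ξ := by
    rw [← Scheme.Hom.comp_apply, pullback.lift_fst]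
    exact hm2 z₀
  obtain ⟨η, hηq, T, hT, hgen⟩ := exists_isMaximalPt_specializes (s q)
  have hη := isMaximalPt_of_isGenericPoint hT hgen
  have hηξ : pullback.fst f g η = ξ := hξ _ (hq ▸ hηq.map (pullback.fst f g).continuous)
  have hηU : η ∈ U := (hηq.trans ((IsLocalRing.specializes_closedPoint q).map s.continuous)).mem_open U.isOpen hwU
  obtain ⟨h1, -⟩ := trdAt_pullback_of_maximal f g η fun t ht _ => hη t ht
  rw [← hηξ, ← h1, ← hee]
  exact hU η hηU fun t ht _ => hη t ht

/-- An open neighbourhood meeting only the components through the point. -/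
theorem exists_open_components_through [IsLocallyNoetherian X] (x : X) :
    ∃ U : X.Opens, x ∈ U ∧ ∀ ξ ∈ U, IsMaximalPt ξ → ξ ⤳ x := by
  classical
  obtain ⟨W, hW, hxW, -⟩ := exists_isAffineOpen_mem_and_subset (x := x) (U := ⊤) trivial
  haveI := IsLocallyNoetherian.component_noetherian ⟨W, hW⟩
  haveI : NoetherianSpace (W : Set X) := noetherianSpace_of_isAffineOpen W hW
  have hfin : (irreducibleComponents (W : Set X)).Finite := NoetherianSpace.finite_irreducibleComponents
  let S : Set X := ⋃ Z ∈ {Z ∈ irreducibleComponents (W : Set X) | (⟨x, hxW⟩ : W) ∉ Z}, Subtype.val '' Z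
  let C : Set (W : Set X) := ⋃ Z ∈ {Z ∈ irreducibleComponents (W : Set X) | (⟨x, hxW⟩ : W) ∉ Z}, Z
  have hC : IsClosed C :=
    (hfin.subset fun Z hZ => hZ.1).isClosed_biUnion fun Z hZ => isClosed_of_mem_irreducibleComponents Z hZ.1
  refine ⟨⟨Subtype.val '' Cᶜ, W.isOpen.isOpenMap_subtype_val _ hC.isOpen_compl⟩, ⟨⟨x, hxW⟩, ?_, rfl⟩, ?_⟩
  · simp only [C, Set.mem_compl_iff, Set.mem_iUnion]
    rintro ⟨Z, ⟨-, hZx⟩, hxZ⟩
    exact hZx hxZ
  · rintro _ ⟨ξ, hξC, rfl⟩ hmax
    have hZ : closure {ξ} ∈ irreducibleComponents (W : Set X) :=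
      DimLib.closure_mem_components (X := W.toScheme) (η := ξ)
        fun z hz => ((Chevalley.isMaximalPt_coe_iff ξ).2 hmax z hz).symm
    by_contra hne
    refine hξC (Set.mem_biUnion (x := closure {ξ}) ⟨hZ, fun hx => hne ?_⟩ (subset_closure rfl))
    exact (specializes_iff_mem_closure.2 hx).map continuous_subtype_val

/-- EGA IV 15.2.4, equidimensional form. -/
theorem isEquidimAt_of_geomReduced [IsLocallyNoetherian Y] [LocallyOfFiniteType f] (x : X)
    (hopen : ∀ z : ↥(f.fiber (f x)), f.asFiber x ∈ closure {z} →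
      (∀ z' : ↥(f.fiber (f x)), z ∈ closure {z'} → z' = z) → EGA43.IsUnivOpenAt f (f.fiberι (f x) z))
    (hred : FBase.IsGeomReducedAt (f.fiberToSpecResidueField (f x)) (f.asFiber x)) (e : ℕ)
    (he : ∀ z, z ⤳ x → f z = f x → (∀ w, w ⤳ z → f w = f x → w = z) → trdAt f z = e) :
    EGA43.IsEquidimAt f x := by
  haveI : IsLocallyNoetherian X := LocallyOfFiniteType.isLocallyNoetherian f
  obtain ⟨U₀, hxU₀, hUO, hUred⟩ := exists_open_universallyOpen f x hopen hred
  obtain ⟨U₁, hxU₁, hU₁⟩ := exists_open_components_through x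
  have hopen' : ∀ z ∈ U₀, EGA43.IsUnivOpenAt f z := fun z hz =>
    Chevalley.isUnivOpenAt_of_comp U₀.ι f ⟨z, hz⟩ (isUnivOpenAt_of_universallyOpen (U₀.ι ≫ f) _)
  refine (Chevalley.isEquidimAt_iff f x).2 ⟨e, U₀ ⊓ U₁, ⟨hxU₀, hxU₁⟩, fun ξ hξU hξ => ?_, fun x' hx' hmax => ?_⟩
  · have hξx := hU₁ ξ hξU.2 hξ
    refine ⟨fun y' hy' => ?_, hξx.map f.continuous⟩
    obtain ⟨ξ', h1, h2⟩ := H8ProCons.exists_generization_of_isOpenAt f
      (Chevalley.isOpenAt_of_isUnivOpenAt f (hopen' ξ hξU.1)) hy'
    rw [← h2, hξ ξ' h1]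
  · obtain ⟨ξ, hξx', T, hT, hgen⟩ := exists_isMaximalPt_specializes x'
    have hξ := isMaximalPt_of_isGenericPoint hT hgen
    have hξx := hU₁ ξ (hξx'.mem_open U₁.isOpen hx'.2) hξ
    rw [← trdAt_maximal_eq f x e (fun z hz hze _ => hopen' z (hz.mem_open U₀.isOpen hxU₀)) hred he hξ hξx]
    symm
    refine trdAt_maximal_eq f x' (trdAt f x') (fun z hz hze _ => hopen' z (hz.mem_open U₀.isOpen hx'.1))
      (hUred x' hx'.1) (fun z hz hze _ => ?_) hξ hξx'
    rw [hmax z hz hze]

end Groth.Agent.EGA43.DvrCrit
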